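import Mathlib.RingTheory.Flat.Localization
import Mathlib.RingTheory.Flat.TorsionFree
import Mathlib.RingTheory.Ideal.AssociatedPrime.Finiteness
import Mathlib.RingTheory.Ideal.AssociatedPrime.Localization
import Mathlib.RingTheory.Localization.BaseChange
import Mathlib.RingTheory.Localization.LocalizationLocalization
import Mathlib.RingTheory.Ideal.HasGoingUp

/-!
Flatness at associated primes.
-/

set_option autoImplicit false
set_option linter.style.haveILetI false
set_option linter.unusedSectionVars false

universe u

namespace Groth.L01.Disc.Assoc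

open TensorProduct

variable {A B : Type u} [CommRing A] [CommRing B] [Algebra A B]

theorem nonZeroDivisors_le [IsNoetherianRing B]
    (h3 : ∀ (q : Ideal B) [q.IsPrime], IsAssociatedPrime q B → Module.Flat A (Localization.AtPrime q)) :
    nonZeroDivisors A ≤ (nonZeroDivisors B).comap (algebraMap A B) := by
  intro a ha
  rw [Submonoid.mem_comap, mem_nonZeroDivisors_iff_right]
  intro b hb
  by_contra hne
  obtain ⟨q, hq, hle⟩ := exists_le_isAssociatedPrime_of_isNoetherianRing B b hne
  haveI := hq.isPrime
  haveI := h3 q hq
  have h0 : algebraMap B (Localization.AtPrime q) b = 0 := by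
    refine Module.Flat.isSMulRegular_of_nonZeroDivisors (M := Localization.AtPrime q) ha ?_
    show a • algebraMap B (Localization.AtPrime q) b = a • 0
    rw [smul_zero, ← IsScalarTower.algebraMap_smul B a, Algebra.smul_def, ← map_mul, mul_comm, hb, map_zero]
  obtain ⟨t, ht⟩ := (IsLocalization.map_eq_zero_iff q.primeCompl _ b).mp h0
  exact t.2 (hle (Submodule.mem_colon_singleton.mpr ((Submodule.mem_bot B).mpr ht)))

section Right

attribute [local instance] Algebra.TensorProduct.rightAlgebra

theorem flat_atPrime (h2 : Module.Flat (FractionRing A) (FractionRing A ⊗[A] B)) (q : Ideal B) [q.IsPrime]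
    (hdisj : ∀ a ∈ nonZeroDivisors A, algebraMap A B a ∉ q) : Module.Flat A (Localization.AtPrime q) := by
  let C := FractionRing A ⊗[A] B
  let M := Algebra.algebraMapSubmonoid B (nonZeroDivisors A)
  have hM : M ≤ q.primeCompl := by
    rintro _ ⟨a, ha, rfl⟩
    exact hdisj a ha
  letI : Algebra C (Localization.AtPrime q) :=
    IsLocalization.localizationAlgebraOfSubmonoidLe C (Localization.AtPrime q) M q.primeCompl hM
  haveI : IsScalarTower B C (Localization.AtPrime q) :=
    IsLocalization.localization_isScalarTower_of_submonoid_le C (Localization.AtPrime q) M q.primeCompl hM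
  haveI : IsScalarTower A C (Localization.AtPrime q) := IsScalarTower.of_algebraMap_eq (R := A) (S := C) (A := Localization.AtPrime q) fun a =>
    ((IsScalarTower.algebraMap_apply A B (Localization.AtPrime q) a).trans
      ((IsScalarTower.algebraMap_apply B C (Localization.AtPrime q) _).trans
        (congrArg _ (IsScalarTower.algebraMap_apply A B C a).symm)))
  haveI := IsLocalization.isLocalization_of_submonoid_le C (Localization.AtPrime q) M q.primeCompl hM
  haveI : Module.Flat C (Localization.AtPrime q) := IsLocalization.flat _ (q.primeCompl.map (algebraMap B C))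
  haveI : Module.Flat A (FractionRing A) := IsLocalization.flat _ (nonZeroDivisors A)
  haveI := h2
  haveI : Module.Flat A C := Module.Flat.trans A (FractionRing A) C
  exact Module.Flat.trans A C (Localization.AtPrime q)

theorem flat_fractionRing [IsNoetherianRing A] [Algebra.HasGoingUp A B]
    (h4 : ∀ (q : Ideal B) [q.IsPrime], IsAssociatedPrime (q.comap (algebraMap A B)) A → Module.Flat A (Localization.AtPrime q)) :
    Module.Flat (FractionRing A) (FractionRing A ⊗[A] B) := by
  let C := FractionRing A ⊗[A] B
  let M := Algebra.algebraMapSubmonoid B (nonZeroDivisors A)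
  rw [Module.flat_iff_of_isLocalization (R := A) (FractionRing A) (nonZeroDivisors A)]
  refine Module.flat_of_isLocalized_maximal (R := A) C C (fun Q => Localization.AtPrime Q)
    (fun Q => Algebra.linearMap C (Localization.AtPrime Q)) fun Q hQ => ?_
  let q := Q.comap (algebraMap B C)
  let p := q.comap (algebraMap A B)
  have hp : (p : Set A) ⊆ ⋃ P ∈ associatedPrimes A A, (P : Set A) := by
    rw [biUnion_associatedPrimes_eq_compl_nonZeroDivisors]
    intro a ha hmem
    refine hQ.ne_top (Ideal.eq_top_of_isUnit_mem _ ha ?_)
    exact IsLocalization.map_units C (⟨_, a, hmem, rfl⟩ : M)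
  obtain ⟨P, hP, hle⟩ := (Ideal.subset_union_prime_finite (associatedPrimes.finite A A) (f := id) 0 0
    fun P hP _ _ => hP.isPrime).mp hp
  haveI : P.IsPrime := hP.isPrime
  replace hle : p ≤ P := hle
  haveI : q.LiesOver p := ⟨rfl⟩
  obtain ⟨q', hqq', hq', hover⟩ := Ideal.exists_ideal_ge_liesOver_of_le (S := B) q hle
  haveI := hq'
  haveI : Module.Flat A (Localization.AtPrime q') := h4 q' (by rw [show q'.comap (algebraMap A B) = P from hover.over.symm]; exact hP)
  have hcompl : q'.primeCompl ≤ q.primeCompl := fun x hx h => hx (hqq' h)
  letI : Algebra (Localization.AtPrime q') (Localization.AtPrime q) :=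
    IsLocalization.localizationAlgebraOfSubmonoidLe _ (Localization.AtPrime q) q'.primeCompl q.primeCompl hcompl
  haveI : IsScalarTower B (Localization.AtPrime q') (Localization.AtPrime q) :=
    IsLocalization.localization_isScalarTower_of_submonoid_le _ _ q'.primeCompl q.primeCompl hcompl
  haveI : IsScalarTower A (Localization.AtPrime q') (Localization.AtPrime q) :=
    IsScalarTower.of_algebraMap_eq fun a => by
      rw [IsScalarTower.algebraMap_apply A B (Localization.AtPrime q'), ← IsScalarTower.algebraMap_apply B _,
        ← IsScalarTower.algebraMap_apply]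
  haveI := IsLocalization.isLocalization_of_submonoid_le (Localization.AtPrime q') (Localization.AtPrime q)
    q'.primeCompl q.primeCompl hcompl
  haveI : Module.Flat (Localization.AtPrime q') (Localization.AtPrime q) :=
    IsLocalization.flat _ (q.primeCompl.map (algebraMap B (Localization.AtPrime q')))
  haveI : Module.Flat A (Localization.AtPrime q) := Module.Flat.trans A (Localization.AtPrime q') _
  haveI : IsScalarTower A B (Localization.AtPrime Q) := IsScalarTower.of_algebraMap_eq fun a => by
    rw [IsScalarTower.algebraMap_apply A C (Localization.AtPrime Q), IsScalarTower.algebraMap_apply A B C,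
      ← IsScalarTower.algebraMap_apply B C]
  haveI : IsLocalization.AtPrime (Localization.AtPrime Q) q :=
    IsLocalization.isLocalization_isLocalization_atPrime_isLocalization M (Localization.AtPrime Q) Q
  exact Module.Flat.of_linearEquiv
    ((IsLocalization.algEquiv q.primeCompl (Localization.AtPrime Q) (Localization.AtPrime q)).restrictScalars A).toLinearEquiv

end Right

theorem flat_atPrime_pair [IsNoetherianRing A] [IsNoetherianRing B]
    (h1 : nonZeroDivisors A ≤ (nonZeroDivisors B).comap (algebraMap A B))
    (h2 : Module.Flat (FractionRing A) (FractionRing A ⊗[A] B)) :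
    (∀ (q : Ideal B) [q.IsPrime], IsAssociatedPrime q B → Module.Flat A (Localization.AtPrime q)) ∧
      (∀ (q : Ideal B) [q.IsPrime], IsAssociatedPrime (q.comap (algebraMap A B)) A → Module.Flat A (Localization.AtPrime q)) := by
  refine ⟨fun q _ hq => flat_atPrime h2 q fun a ha hmem => ?_, fun q _ hq => flat_atPrime h2 q fun a ha hmem => ?_⟩
  · have : algebraMap A B a ∈ ⋃ P ∈ associatedPrimes B B, (P : Set B) := Set.mem_biUnion hq hmem
    rw [biUnion_associatedPrimes_eq_compl_nonZeroDivisors] at this
    exact this (h1 ha)
  · have : a ∈ ⋃ P ∈ associatedPrimes A A, (P : Set A) := Set.mem_biUnion hq hmem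
    rw [biUnion_associatedPrimes_eq_compl_nonZeroDivisors] at this
    exact this ha

end Groth.L01.Disc.Assoc
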