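import Groth.Agent.L01.Wiebe.Tate
import Mathlib.RingTheory.Kaehler.Basic
import Mathlib.RingTheory.Unramified.Locus
import Mathlib.RingTheory.Support
import Mathlib.LinearAlgebra.Matrix.Charpoly.LinearMap
import Mathlib.RingTheory.PicardGroup

/-!
The Noether different and the different of a finite free algebra, and the ramification locus.
-/

set_option autoImplicit false
set_option linter.style.haveILetI false
set_option linter.unusedSectionVars false
set_option backward.isDefEq.respectTransparency.types false
set_option maxSynthPendingDepth 3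

universe u v

namespace Groth.L01.Disc

open TensorProduct

variable {A : Type u} {B : Type v} [CommRing A] [CommRing B] [Algebra A B]

/-- the kernel of the multiplication -/
noncomputable abbrev diag (A : Type u) (B : Type v) [CommRing A] [CommRing B] [Algebra A B] : Ideal (B ⊗[A] B) :=
  RingHom.ker (Algebra.TensorProduct.lmul' (S := B) A)

theorem diag_eq : diag A B = KaehlerDifferential.ideal A B := rfl

theorem mem_ann_iff (z : B ⊗[A] B) : z ∈ Submodule.annihilator (diag A B) ↔
    ∀ b : B, ((1 : B) ⊗ₜ[A] b) * z = (b ⊗ₜ[A] (1 : B)) * z := by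
  constructor
  · intro hz b
    rw [← sub_eq_zero, ← sub_mul, mul_comm]
    exact Submodule.mem_annihilator.mp hz _ (RingHom.mem_ker.mpr (by simp))
  · intro h
    rw [Submodule.mem_annihilator]
    intro y hy
    rw [diag_eq, ← KaehlerDifferential.span_range_eq_ideal] at hy
    refine Submodule.span_induction ?_ (smul_zero z) ?_ ?_ hy
    · rintro _ ⟨b, rfl⟩
      show z * _ = 0
      rw [mul_comm, sub_mul, h b, sub_self]
    · intro a b _ _ ha hb
      rw [smul_add, ha, hb, add_zero]
    · intro a b _ hb
      rw [smul_comm, hb, smul_zero]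

theorem comm_mem_ann {z : B ⊗[A] B} (hz : z ∈ Submodule.annihilator (diag A B)) :
    Algebra.TensorProduct.comm A B B z ∈ Submodule.annihilator (diag A B) := by
  rw [mem_ann_iff] at hz ⊢
  intro b
  apply (Algebra.TensorProduct.comm A B B).injective
  rw [map_mul, map_mul, Algebra.TensorProduct.comm_tmul, Algebra.TensorProduct.comm_tmul,
    show Algebra.TensorProduct.comm A B B (Algebra.TensorProduct.comm A B B z) = z from
      (TensorProduct.comm A B B).apply_symm_apply z]
  exact (hz b).symm

theorem noetherDifferent_eq :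
    (Disc.noetherDifferent A B : Set B) =
      (Algebra.TensorProduct.lmul' (S := B) A) '' (Submodule.annihilator (diag A B) : Set (B ⊗[A] B)) := by
  ext b
  rw [SetLike.mem_coe, Disc.noetherDifferent, Ideal.mem_map_iff_of_surjective _
    (fun b => ⟨b ⊗ₜ[A] 1, by simp⟩)]
  rfl

section Ramified

variable [Algebra.FiniteType A B]

theorem exists_kills_of_mem {q : Ideal B} [q.IsPrime] (h : ¬ Disc.noetherDifferent A B ≤ q) :
    ¬ Module.annihilator B (Ω[B⁄A]) ≤ q := by
  intro hle
  obtain ⟨b, hb, hbq⟩ := SetLike.not_le_iff_exists.mp h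
  have hb' : b ∈ (Disc.noetherDifferent A B : Set B) := hb
  rw [noetherDifferent_eq] at hb'
  obtain ⟨z, hz, rfl⟩ := hb'
  refine hbq (hle (Module.mem_annihilator.mpr fun c => ?_))
  obtain ⟨x, rfl⟩ := (KaehlerDifferential.ideal A B).toCotangent_surjective c
  rw [← algebraMap_smul (B ⊗[A] B) (Algebra.TensorProduct.lmul' (S := B) A z)]
  refine ((KaehlerDifferential.ideal A B).toCotangent.map_smul _ x).symm.trans ?_
  refine ((KaehlerDifferential.ideal A B).toCotangent_eq_zero _).mpr ?_
  show (algebraMap B (B ⊗[A] B) (Algebra.TensorProduct.lmul' (S := B) A z)) * (x : B ⊗[A] B) ∈ _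
  have h0 : z * (x : B ⊗[A] B) = 0 := Submodule.mem_annihilator.mp hz _ x.2
  rw [← sub_zero (_ * (x : B ⊗[A] B)), ← h0, ← sub_mul, pow_two]
  refine Ideal.mul_mem_mul ?_ x.2
  rw [← diag_eq, RingHom.mem_ker, map_sub]
  simp [Algebra.TensorProduct.algebraMap_apply]

theorem not_le_of_kills {q : Ideal B} [q.IsPrime] (h : ¬ Module.annihilator B (Ω[B⁄A]) ≤ q) :
    ¬ Disc.noetherDifferent A B ≤ q := by
  obtain ⟨b, hb, hbq⟩ := SetLike.not_le_iff_exists.mp h
  let I := KaehlerDifferential.ideal A B
  let β : B ⊗[A] B := algebraMap B (B ⊗[A] B) b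
  haveI : Module.Finite (B ⊗[A] B) I := Module.Finite.iff_fg.mpr (KaehlerDifferential.ideal_fg A B)
  let f : Module.End (B ⊗[A] B) I := algebraMap (B ⊗[A] B) _ β
  have hrange : LinearMap.range f ≤ I • ⊤ := by
    rintro _ ⟨x, rfl⟩
    have h0 : b • I.toCotangent x = 0 := Module.mem_annihilator.mp hb _
    rw [← algebraMap_smul (B ⊗[A] B) b] at h0
    replace h0 : I.toCotangent (β • x) = 0 := (I.toCotangent.map_smul β x).trans h0
    replace h0 := (I.toCotangent_eq_zero _).mp h0
    rw [pow_two] at h0
    have e : (I • (⊤ : Submodule (B ⊗[A] B) I)).map I.subtype = I * I := by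
      rw [Submodule.map_smul'', Submodule.map_top, Submodule.range_subtype, smul_eq_mul]
    rw [← e] at h0
    obtain ⟨w, hw, hwx⟩ := h0
    show β • x ∈ _
    rw [← Subtype.ext hwx]
    exact hw
  obtain ⟨p, hmon, -, hcoeff, hp⟩ :=
    LinearMap.exists_monic_and_natDegree_eq_and_coeff_mem_pow_and_aeval_eq_zero (R := B ⊗[A] B) f I hrange
  have hγ : p.eval β ∈ Submodule.annihilator (diag A B) := by
    rw [Submodule.mem_annihilator]
    intro x hx
    have h1 : (Polynomial.aeval f p) ⟨x, hx⟩ = 0 := by rw [hp]; rfl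
    rw [show f = algebraMap (B ⊗[A] B) _ β from rfl, Polynomial.aeval_algebraMap_apply, Module.algebraMap_end_apply] at h1
    simpa using congrArg Subtype.val h1
  intro hle
  have hμ : Algebra.TensorProduct.lmul' (S := B) A (p.eval β) ∈ q := by
    refine hle ?_
    show _ ∈ (Disc.noetherDifferent A B : Set B)
    rw [noetherDifferent_eq]
    exact ⟨_, hγ, rfl⟩
  refine hbq ((inferInstance : q.IsPrime).mem_of_pow_mem p.natDegree ?_)
  have hval : Algebra.TensorProduct.lmul' (S := B) A (p.eval β) = b ^ p.natDegree := by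
    rw [Polynomial.eval_eq_sum_range, map_sum, Finset.sum_range_succ, hmon.coeff_natDegree, one_mul,
      map_pow, show Algebra.TensorProduct.lmul' (S := B) A β = b by simp [β, Algebra.TensorProduct.algebraMap_apply],
      Finset.sum_eq_zero, zero_add]
    intro k hk
    have hk' := Finset.mem_range.mp hk
    have hmem : p.coeff k ∈ I := Ideal.pow_le_self (by omega) (hcoeff k)
    rw [map_mul, RingHom.mem_ker.mp hmem, zero_mul]
  rwa [hval] at hμ

/-- The Noether different cuts out the ramification locus. -/
theorem noetherDifferent_le_iff (q : Ideal B) [q.IsPrime] :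
    Disc.noetherDifferent A B ≤ q ↔ ¬ Algebra.IsUnramifiedAt A q := by
  have h : Algebra.IsUnramifiedAt A q ↔ ¬ Module.annihilator B (Ω[B⁄A]) ≤ q := by
    have h1 := Set.ext_iff.mp (Algebra.unramifiedLocus_eq_compl_support (R := A) (A := B)) ⟨q, inferInstance⟩
    rw [Set.mem_compl_iff, Module.mem_support_iff_of_finite] at h1
    exact h1
  rw [h, not_not]
  exact ⟨fun hle => by_contra fun hn => not_le_of_kills hn hle, fun hle => by_contra fun hn => exists_kills_of_mem hn hle⟩

end Ramified

end Groth.L01.Disc
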