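import Groth.Agent.L01.Disc.Basic
import Mathlib.RingTheory.RingHom.Flat
import Mathlib.RingTheory.IsTensorProduct
import Mathlib.AlgebraicGeometry.Morphisms.Flat
import Mathlib.LinearAlgebra.TensorProduct.Pi
import Mathlib.RingTheory.Localization.Away.Basic

/-!
The Noether different commutes with flat base change and with open immersions on the source.
-/

set_option autoImplicit false
set_option linter.style.haveILetI false
set_option linter.unusedSectionVars false
set_option backward.isDefEq.respectTransparency.types false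
set_option maxSynthPendingDepth 3

universe u

namespace Groth.L01.Disc

open TensorProduct

section Ann

variable {Q Q' : Type u} [CommRing Q] [CommRing Q'] (φ : Q →+* Q')

theorem mem_map_annihilator (hφ : φ.Flat) (I : Ideal Q) (hI : I.FG) {z : Q'}
    (hz : ∀ g ∈ I, z * φ g = 0) : z ∈ (Submodule.annihilator I).map φ := by
  classical
  obtain ⟨s, rfl⟩ := hI
  letI := φ.toAlgebra
  haveI : Module.Flat Q Q' := hφ
  let ι := {x // x ∈ s}
  let ℓ : Q →ₗ[Q] (ι → Q) := LinearMap.pi fun g => LinearMap.mulRight Q g.1
  let incl : LinearMap.ker ℓ →ₗ[Q] Q := (LinearMap.ker ℓ).subtype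
  have hex : Function.Exact (incl.lTensor Q') (ℓ.lTensor Q') :=
    Module.Flat.lTensor_exact Q' ℓ.exact_subtype_ker_map
  have h0 : (ℓ.lTensor Q') (z ⊗ₜ[Q] (1 : Q)) = 0 := by
    apply (TensorProduct.piScalarRight Q Q Q' ι).injective
    rw [map_zero, LinearMap.lTensor_tmul, TensorProduct.piScalarRight_apply, TensorProduct.piScalarRightHom_tmul]
    funext g
    show (ℓ 1 g) • z = 0
    rw [show ℓ 1 g = g.1 from one_mul _, Algebra.smul_def, mul_comm]
    exact hz g.1 (Ideal.subset_span g.2)
  obtain ⟨w, hw⟩ := (hex _).mp h0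
  have hzw : z = TensorProduct.rid Q Q' (incl.lTensor Q' w) := by rw [hw, TensorProduct.rid_tmul, one_smul]
  rw [hzw]
  clear hzw hw h0
  induction w using TensorProduct.induction_on with
  | zero => rw [map_zero, map_zero]; exact Submodule.zero_mem _
  | add a b ha hb => rw [map_add, map_add]; exact Submodule.add_mem _ ha hb
  | tmul t k =>
    rw [LinearMap.lTensor_tmul, TensorProduct.rid_tmul, Algebra.smul_def]
    refine Ideal.mul_mem_right _ _ (Ideal.mem_map_of_mem φ ?_)
    rw [Submodule.mem_annihilator]
    intro x hx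
    refine Submodule.span_induction ?_ (smul_zero _) ?_ ?_ hx
    · intro g hg
      exact congrFun (LinearMap.mem_ker.mp k.2) ⟨g, hg⟩
    · intro a b _ _ ha hb
      rw [smul_add, ha, hb, add_zero]
    · intro a b _ hb
      rw [smul_comm, hb, smul_zero]

theorem annihilator_map (hφ : φ.Flat) (I : Ideal Q) (hI : I.FG) :
    Submodule.annihilator (I.map φ) = (Submodule.annihilator I).map φ := by
  refine le_antisymm (fun z hz => mem_map_annihilator φ hφ I hI fun g hg =>
    Submodule.mem_annihilator.mp hz _ (Ideal.mem_map_of_mem φ hg)) (Ideal.map_le_iff_le_comap.mpr fun a ha => ?_)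
  rw [Ideal.mem_comap, Submodule.mem_annihilator]
  intro x hx
  refine Submodule.span_induction ?_ (smul_zero _) ?_ ?_ hx
  · rintro _ ⟨g, hg, rfl⟩
    rw [smul_eq_mul, ← map_mul, show a * g = 0 from Submodule.mem_annihilator.mp ha g hg, map_zero]
  · intro a b _ _ ha hb
    rw [smul_add, ha, hb, add_zero]
  · intro a b _ hb
    rw [smul_comm, hb, smul_zero]

end Ann

variable {A B : Type u} [CommRing A] [CommRing B] [Algebra A B] [Algebra.FiniteType A B]

theorem noether_map {A' B' : Type u} [CommRing A'] [CommRing B'] [Algebra A' B'] (ι : B →+* B')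
    (ψ : B ⊗[A] B →+* B' ⊗[A'] B') (hψ : ψ.Flat)
    (hcomm : ∀ z, Algebra.TensorProduct.lmul' (S := B') A' (ψ z) = ι (Algebra.TensorProduct.lmul' (S := B) A z))
    (hker : diag A' B' ≤ (diag A B).map ψ) :
    Disc.noetherDifferent A' B' = (Disc.noetherDifferent A B).map ι := by
  have hker' : diag A' B' = (diag A B).map ψ := le_antisymm hker (Ideal.map_le_iff_le_comap.mpr fun z hz => by
    rw [Ideal.mem_comap, RingHom.mem_ker, hcomm, RingHom.mem_ker.mp hz, map_zero])
  have hfg : (diag A B).FG := by rw [diag_eq]; exact KaehlerDifferential.ideal_fg A B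
  rw [Disc.noetherDifferent, Disc.noetherDifferent, show RingHom.ker (Algebra.TensorProduct.lmul' (S := B') A') = _
    from hker', annihilator_map ψ hψ _ hfg]
  show Ideal.map (Algebra.TensorProduct.lmul' (S := B') A').toRingHom (Ideal.map ψ _) =
    Ideal.map ι (Ideal.map (Algebra.TensorProduct.lmul' (S := B) A).toRingHom _)
  rw [Ideal.map_map, Ideal.map_map]
  congr 1
  exact RingHom.ext hcomm

/-- Flat epimorphisms on the source. -/
theorem noether_flat_epi {B' : Type u} [CommRing B'] [Algebra A B'] [Algebra B B'] [IsScalarTower A B B']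
    (hflat : (algebraMap B B').Flat)
    (hepi : ∀ (T : Type u) [CommRing T] (g₁ g₂ : B' →+* T), g₁.comp (algebraMap B B') = g₂.comp (algebraMap B B') → g₁ = g₂) :
    Disc.noetherDifferent A B' = (Disc.noetherDifferent A B).map (algebraMap B B') := by
  let f : B →ₐ[A] B' := IsScalarTower.toAlgHom A B B'
  let ψ : B ⊗[A] B →ₐ[A] B' ⊗[A] B' := Algebra.TensorProduct.map f f
  have hψ : ψ.toRingHom.Flat := RingHom.Flat.tensorProductMap (f := f) (g := f) hflat hflat
  refine noether_map (algebraMap B B') ψ.toRingHom hψ (fun z => ?_) ?_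
  · show Algebra.TensorProduct.lmul' (S := B') A (ψ z) = _
    induction z using TensorProduct.induction_on with
    | zero => simp
    | add a b ha hb => simp [ha, hb]
    | tmul a b => simp [ψ, f]
  · let J := (diag A B).map ψ.toRingHom
    rw [diag_eq, ← KaehlerDifferential.span_range_eq_ideal, Ideal.span_le]
    rintro _ ⟨c, rfl⟩
    have h := RingHom.congr_fun (hepi (B' ⊗[A] B' ⧸ J)
      ((Ideal.Quotient.mk J).comp Algebra.TensorProduct.includeRight.toRingHom)
      ((Ideal.Quotient.mk J).comp Algebra.TensorProduct.includeLeftRingHom) (RingHom.ext fun b => by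
        refine Ideal.Quotient.eq.mpr ?_
        have hb : (1 : B) ⊗ₜ[A] b - b ⊗ₜ[A] (1 : B) ∈ diag A B := RingHom.mem_ker.mpr (by simp)
        have := Ideal.mem_map_of_mem ψ.toRingHom hb
        rw [map_sub] at this
        simpa [ψ, f, J] using this)) c
    exact Ideal.Quotient.eq.mp h

/-- Open immersions on the source. -/
theorem noether_openImmersion {B' : Type u} [CommRing B'] [Algebra A B'] [Algebra B B'] [IsScalarTower A B B']
    (h : AlgebraicGeometry.IsOpenImmersion
      (AlgebraicGeometry.Spec.map (CommRingCat.ofHom (algebraMap B B')))) :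
    Disc.noetherDifferent A B' = (Disc.noetherDifferent A B).map (algebraMap B B') := by
  haveI := h
  refine noether_flat_epi ?_ ?_
  · have hf : AlgebraicGeometry.Flat (AlgebraicGeometry.Spec.map (CommRingCat.ofHom (algebraMap B B'))) := inferInstance
    exact AlgebraicGeometry.Flat.SpecMap_iff.mp hf
  · intro T _ g₁ g₂ hg
    have h2 : AlgebraicGeometry.Spec.map (CommRingCat.ofHom g₁) = AlgebraicGeometry.Spec.map (CommRingCat.ofHom g₂) := by
      rw [← CategoryTheory.cancel_mono (AlgebraicGeometry.Spec.map (CommRingCat.ofHom (algebraMap B B'))),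
        ← AlgebraicGeometry.Spec.map_comp, ← AlgebraicGeometry.Spec.map_comp]
      congr 1
      exact CommRingCat.hom_ext hg
    exact congrArg CommRingCat.Hom.hom (AlgebraicGeometry.Spec.map_injective h2)

/-- Localizations on the source. -/
theorem noether_localization (S : Submonoid B) {B' : Type u} [CommRing B'] [Algebra A B'] [Algebra B B']
    [IsScalarTower A B B'] [IsLocalization S B'] :
    Disc.noetherDifferent A B' = (Disc.noetherDifferent A B).map (algebraMap B B') := by
  haveI := IsLocalization.flat B' S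
  exact noether_flat_epi (RingHom.flat_algebraMap_iff.mpr inferInstance)
    fun T _ g₁ g₂ hg => IsLocalization.ringHom_ext S hg

section Pushout

variable {A' B' : Type u} [CommRing A'] [CommRing B'] [Algebra A A'] [Algebra A B'] [Algebra B B']
  [Algebra A' B'] [IsScalarTower A B B'] [IsScalarTower A A' B'] [Algebra.IsPushout A B A' B'] [Module.Flat A A']

theorem noether_baseChange : Disc.noetherDifferent A' B' = (Disc.noetherDifferent A B).map (algebraMap B B') := by
  haveI hpush : Algebra.IsPushout A A' B B' := Algebra.IsPushout.symm inferInstance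
  haveI : Module.Flat B B' := by
    haveI : Module.Flat B (B ⊗[A] A') := inferInstance
    exact Module.Flat.of_linearEquiv (Algebra.IsPushout.equiv A B A' B').toLinearEquiv.symm
  let ι : B →ₐ[A] B' := IsScalarTower.toAlgHom A B B'
  let Ψ : B' ⊗[A] B →ₐ[A] B' ⊗[A'] B' := Algebra.TensorProduct.lift
    ((Algebra.TensorProduct.includeLeft : B' →ₐ[A'] B' ⊗[A'] B').restrictScalars A)
    (((Algebra.TensorProduct.includeRight : B' →ₐ[A'] B' ⊗[A'] B').restrictScalars A).comp ι) fun _ _ => .all _ _
  let E : B' ⊗[A'] B' ≃ₗ[A'] B' ⊗[A] B :=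
    (TensorProduct.congr (LinearEquiv.refl A' B') (Algebra.IsPushout.equiv A A' B B').symm.toLinearEquiv).trans
      ((TensorProduct.AlgebraTensorModule.cancelBaseChange A A' B' B' B).restrictScalars A')
  have hEΨ : ∀ z, E (Ψ z) = z := by
    intro z
    induction z using TensorProduct.induction_on with
    | zero => rw [map_zero, map_zero]
    | add a b ha hb => rw [map_add, map_add, ha, hb]
    | tmul x b =>
      have h1 : Ψ (x ⊗ₜ[A] b) = x ⊗ₜ[A'] ι b := by simp [Ψ]
      rw [h1]
      show TensorProduct.AlgebraTensorModule.cancelBaseChange A A' B' B' B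
        (x ⊗ₜ[A'] (Algebra.IsPushout.equiv A A' B B').symm (algebraMap B B' b)) = _
      have h2 : (Algebra.IsPushout.equiv A A' B B').symm (algebraMap B B' b) = (1 : A') ⊗ₜ[A] b := by
        rw [AlgEquiv.symm_apply_eq, Algebra.IsPushout.equiv_tmul, map_one, one_mul]
      rw [h2, TensorProduct.AlgebraTensorModule.cancelBaseChange_tmul, one_smul]
  have hΨ : Function.Bijective Ψ := by
    have : (Ψ : B' ⊗[A] B → B' ⊗[A'] B') = E.symm := funext fun z => E.injective (by rw [hEΨ, E.apply_symm_apply])
    rw [this]
    exact E.symm.bijective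
  let ψ : B ⊗[A] B →+* B' ⊗[A'] B' := Ψ.toRingHom.comp (Algebra.TensorProduct.map ι (AlgHom.id A B)).toRingHom
  have hψ : ψ.Flat := RingHom.Flat.comp
    (RingHom.Flat.tensorProductMap (f := ι) (g := AlgHom.id A B) (RingHom.flat_algebraMap_iff.mpr inferInstance)
      (RingHom.Flat.of_bijective Function.bijective_id)) (RingHom.Flat.of_bijective hΨ)
  have htm : ∀ a b : B, ψ (a ⊗ₜ[A] b) = ι a ⊗ₜ[A'] ι b := fun a b => by simp [ψ, Ψ]
  refine noether_map (algebraMap B B') ψ hψ (fun z => ?_) ?_
  · induction z using TensorProduct.induction_on with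
    | zero => simp
    | add a b ha hb => simp [ha, hb]
    | tmul a b => rw [htm]; simp [ι]
  · rw [diag_eq, ← KaehlerDifferential.span_range_eq_ideal, Ideal.span_le]
    rintro _ ⟨c, rfl⟩
    obtain ⟨w, rfl⟩ := (Algebra.IsPushout.equiv A A' B B').surjective c
    show (1 : B') ⊗ₜ[A'] (Algebra.IsPushout.equiv A A' B B' w) - (Algebra.IsPushout.equiv A A' B B' w) ⊗ₜ[A'] 1 ∈ _
    induction w using TensorProduct.induction_on with
    | zero => rw [map_zero, TensorProduct.tmul_zero, TensorProduct.zero_tmul, sub_zero]; exact Submodule.zero_mem _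
    | add a b ha hb =>
      rw [map_add, TensorProduct.tmul_add, TensorProduct.add_tmul, add_sub_add_comm]
      exact Submodule.add_mem _ ha hb
    | tmul r b =>
      rw [Algebra.IsPushout.equiv_tmul, ← Algebra.smul_def, TensorProduct.tmul_smul, ← TensorProduct.smul_tmul',
        ← smul_sub, ← algebraMap_smul (B' ⊗[A'] B') r]
      refine Submodule.smul_mem _ _ ?_
      have hb : (1 : B) ⊗ₜ[A] b - b ⊗ₜ[A] (1 : B) ∈ diag A B := RingHom.mem_ker.mpr (by simp)
      have := Ideal.mem_map_of_mem ψ hb
      rw [map_sub, htm, htm, map_one] at this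
      exact this

end Pushout

end Groth.L01.Disc
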