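import Mathlib.RingTheory.Ideal.AssociatedPrime.Finiteness
import Mathlib.LinearAlgebra.Matrix.Charpoly.LinearMap
import Mathlib.RingTheory.Flat.Localization
import Mathlib.RingTheory.Localization.BaseChange
import Mathlib.RingTheory.LocalRing.ResidueField.Ideal
import Mathlib.LinearAlgebra.TensorProduct.RightExactness
import Mathlib.RingTheory.Noetherian.Basic
import Mathlib.RingTheory.TensorProduct.Finite
import Mathlib.RingTheory.HopkinsLevitzki

/-!
Local vanishing of first extensions of a finite algebra at a prime where it is flat.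
-/

set_option autoImplicit false
set_option linter.style.haveILetI false
set_option linter.unusedSectionVars false
set_option backward.isDefEq.respectTransparency.types false

universe u

namespace Groth.L01.Disc.ExtVanish

open TensorProduct

variable {A B : Type u} [CommRing A] [IsNoetherianRing A] [CommRing B] [Algebra A B]
  {n : ℕ} (π : (Fin n → A) →ₗ[A] B) (q : Ideal B)

/-- lifts of multiplications -/
def Lifts (s : B) (S : (Fin n → A) →ₗ[A] (Fin n → A)) : Prop := ∀ v, π (S v) = s * π v

theorem Lifts.mem {s : B} {S : (Fin n → A) →ₗ[A] (Fin n → A)} (hS : Lifts π s S) (k : LinearMap.ker π) :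
    S k ∈ LinearMap.ker π := by
  rw [LinearMap.mem_ker, hS, show π k = 0 from k.2, mul_zero]

/-- restriction of a lift to the relations -/
noncomputable def Lifts.res {s : B} {S : (Fin n → A) →ₗ[A] (Fin n → A)} (hS : Lifts π s S) :
    LinearMap.ker π →ₗ[A] LinearMap.ker π :=
  LinearMap.codRestrict _ (S.comp (LinearMap.ker π).subtype) hS.mem

/-- every map on relations extends, up to an element outside `q` -/
def Vanish (N : Type u) [AddCommGroup N] [Module A N] : Prop :=
  ∀ h : LinearMap.ker π →ₗ[A] N, ∃ (s : B) (S : (Fin n → A) →ₗ[A] (Fin n → A)) (hS : Lifts π s S)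
    (g : (Fin n → A) →ₗ[A] N), s ∉ q ∧ ∀ k, h (hS.res π k) = g k

theorem exists_lift (hπ : Function.Surjective π) (s : B) : ∃ S, Lifts π s S := by
  obtain ⟨S, hS⟩ := Module.projective_lifting_property π ((LinearMap.mulLeft A s).comp π) hπ
  exact ⟨S, fun v => LinearMap.congr_fun hS v⟩

theorem vanish_congr {N N' : Type u} [AddCommGroup N] [Module A N] [AddCommGroup N'] [Module A N']
    (e : N ≃ₗ[A] N') (h' : Vanish π q N') : Vanish π q N := by
  intro h
  obtain ⟨s, S, hS, g, hs, hg⟩ := h' (e.toLinearMap.comp h)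
  exact ⟨s, S, hS, e.symm.toLinearMap.comp g, hs, fun k => e.injective ((hg k).trans (e.apply_symm_apply _).symm)⟩

variable [hq : q.IsPrime]

theorem vanish_exact (hπ : Function.Surjective π) {N₁ N₂ N₃ : Type u} [AddCommGroup N₁] [Module A N₁]
    [AddCommGroup N₂] [Module A N₂] [AddCommGroup N₃] [Module A N₃] (f : N₁ →ₗ[A] N₂) (g : N₂ →ₗ[A] N₃)
    (hf : Function.Injective f) (hg : Function.Surjective g) (hfg : Function.Exact f g)
    (h1 : Vanish π q N₁) (h3 : Vanish π q N₃) : Vanish π q N₂ := by
  intro h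
  obtain ⟨s, S, hS, g₃, hs, hg₃⟩ := h3 (g.comp h)
  obtain ⟨G, hG⟩ := Module.projective_lifting_property g g₃ hg
  let d : LinearMap.ker π →ₗ[A] N₂ := h.comp (hS.res π) - G.comp (LinearMap.ker π).subtype
  have hd : ∀ k, d k ∈ LinearMap.range f := fun k => (hfg (d k)).mp (by
    show g (h (hS.res π k) - G k) = 0
    rw [map_sub, sub_eq_zero]
    exact (hg₃ k).trans (LinearMap.congr_fun hG _).symm)
  let d₁ : LinearMap.ker π →ₗ[A] N₁ := (LinearEquiv.ofInjective f hf).symm.toLinearMap.comp (LinearMap.codRestrict _ d hd)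
  have hd₁ : ∀ k, f (d₁ k) = d k := fun k =>
    congrArg Subtype.val ((LinearEquiv.ofInjective f hf).apply_symm_apply (LinearMap.codRestrict _ d hd k))
  obtain ⟨t, T, hT, g₁, ht, hg₁⟩ := h1 d₁
  refine ⟨s * t, S.comp T, fun v => ?_, G.comp T + f.comp g₁, hq.mul_notMem hs ht, fun k => ?_⟩
  · rw [LinearMap.comp_apply, hS, hT, mul_assoc]
  · have e1 : f (g₁ k) = d (hT.res π k) := by rw [← hg₁, hd₁]
    show h _ = G (T k) + f (g₁ k)
    rw [e1]
    show h _ = G (T k) + (h (hS.res π (hT.res π k)) - G (T k))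
    rw [add_sub_cancel]
    rfl

theorem vanish_subsingleton (hπ : Function.Surjective π) (N : Type u) [AddCommGroup N] [Module A N]
    [Subsingleton N] : Vanish π q N := fun h => by
  obtain ⟨S, hS⟩ := exists_lift π hπ 1
  exact ⟨1, S, hS, 0, q.ne_top_iff_one.mp hq.ne_top, fun k => Subsingleton.elim _ _⟩

theorem vanish_of_notMem {N : Type u} [AddCommGroup N] [Module A N] (a : A) (ha : algebraMap A B a ∉ q)
    (hN : ∀ x : N, a • x = 0) : Vanish π q N := fun h => by
  have hS : Lifts π (algebraMap A B a) (a • LinearMap.id) := fun v => by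
    rw [LinearMap.smul_apply, map_smul, LinearMap.id_apply, Algebra.smul_def]
  refine ⟨algebraMap A B a, a • LinearMap.id, hS, 0, ha, fun k => ?_⟩
  rw [show hS.res π k = a • k from rfl, map_smul, hN]
  rfl

theorem exists_tor_killer [Module.Finite A B] (hflat : Module.Flat A (Localization.AtPrime q)) (I : Ideal A) :
    ∃ s ∉ q, ∀ z : B ⊗[A] I, TensorProduct.AlgebraTensorModule.lTensor B B I.subtype z = 0 → s • z = 0 := by
  classical
  haveI : IsNoetherianRing B := IsNoetherianRing.of_finite A B
  let ℓ : B ⊗[A] I →ₗ[B] B ⊗[A] A := TensorProduct.AlgebraTensorModule.lTensor B B I.subtype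
  obtain ⟨t, ht⟩ := (IsNoetherian.noetherian (LinearMap.ker ℓ) : (LinearMap.ker ℓ).FG)
  let L := Localization.AtPrime q
  let r : B ⊗[A] I →ₗ[B] L ⊗[A] I := TensorProduct.AlgebraTensorModule.rTensor A I (Algebra.linearMap B L)
  have hkill : ∀ z : t, ∃ s : q.primeCompl, (s : B) • (z : B ⊗[A] I) = 0 := fun z => by
    have hz : ℓ (z : B ⊗[A] I) = 0 := LinearMap.mem_ker.mp (ht ▸ Submodule.subset_span z.2)
    have h0 : r (z : B ⊗[A] I) = 0 := by
      haveI := hflat
      refine Module.Flat.lTensor_preserves_injective_linearMap (M := L) I.subtype I.injective_subtype ?_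
      rw [map_zero]
      have hcomm : ∀ w : B ⊗[A] I, LinearMap.lTensor L I.subtype (r w) =
          TensorProduct.AlgebraTensorModule.rTensor A A (Algebra.linearMap B L) (ℓ w) := fun w => by
        induction w using TensorProduct.induction_on with
        | zero => simp
        | add a b ha hb => simp [ha, hb]
        | tmul a b => rfl
      rw [hcomm, hz, map_zero]
    obtain ⟨s, hs⟩ := (IsLocalizedModule.eq_zero_iff q.primeCompl r).mp h0
    exact ⟨s, hs⟩
  choose s hs using hkill
  refine ⟨∏ z : t, (s z : B), prod_mem (S := q.primeCompl) fun z _ => (s z).2, fun z hz => ?_⟩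
  have hz' : z ∈ Submodule.span B (t : Set (B ⊗[A] I)) := ht ▸ hz
  induction hz' using Submodule.span_induction with
  | mem z hz0 =>
    obtain ⟨w, hw⟩ : (s ⟨z, hz0⟩ : B) ∣ ∏ z : t, (s z : B) :=
      Finset.dvd_prod_of_mem (fun z => (s z : B)) (Finset.mem_univ _)
    rw [hw, mul_comm, mul_smul, hs ⟨z, hz0⟩, smul_zero]
  | zero => rw [smul_zero]
  | add a b ha hb iha ihb =>
    rw [smul_add, iha (LinearMap.mem_ker.mp (ht ▸ ha)), ihb (LinearMap.mem_ker.mp (ht ▸ hb)), add_zero]
  | smul a b hb ihb => rw [smul_comm, ihb (LinearMap.mem_ker.mp (ht ▸ hb)), smul_zero]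

theorem vanish_residue [Module.Finite A B] (hπ : Function.Surjective π) (hflat : Module.Flat A (Localization.AtPrime q))
    (p : Ideal A) (hp : p = q.comap (algebraMap A B)) : Vanish π q (A ⧸ p) := by
  classical
  intro h
  haveI : p.IsPrime := hp ▸ Ideal.IsPrime.comap _
  obtain ⟨s, hs, hkill⟩ := exists_tor_killer q hflat p
  obtain ⟨S, hS⟩ := exists_lift π hπ s
  let K := LinearMap.ker π
  let hSK : K →ₗ[A] A ⧸ p := h.comp (hS.res π)
  let b := Pi.basisFun A (Fin n)
  -- the twisted map only depends on the relation modulo `p`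
  have hvan : ∀ k : K, (∀ i, (k : Fin n → A) i ∈ p) → hSK k = 0 := by
    intro k hk
    let w : (Fin n → A) ⊗[A] p := ∑ i, b i ⊗ₜ[A] (⟨(k : Fin n → A) i, hk i⟩ : p)
    let m : (Fin n → A) ⊗[A] p →ₗ[A] (Fin n → A) :=
      TensorProduct.lift ((LinearMap.lsmul A (Fin n → A)).comp p.subtype).flip
    have hm : m w = k := by
      rw [map_sum]
      simpa [m, b] using b.sum_repr (k : Fin n → A)
    have hker : (LinearMap.rTensor p (π.comp S)) w = 0 := by
      have h1 : (LinearMap.rTensor p (π.comp S)) w = s • LinearMap.rTensor p π w := by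
        simp only [w, map_sum, Finset.smul_sum, LinearMap.rTensor_tmul, TensorProduct.smul_tmul', smul_eq_mul,
          LinearMap.comp_apply, hS _]
      rw [h1]
      refine hkill _ ((TensorProduct.rid A B).injective ?_)
      rw [map_zero, ← show π k = 0 from k.2]
      conv_rhs => rw [← b.sum_repr (k : Fin n → A), map_sum]
      simp only [w, map_sum, LinearMap.rTensor_tmul, TensorProduct.AlgebraTensorModule.lTensor_tmul,
        TensorProduct.rid_tmul, map_smul]
      exact Finset.sum_congr rfl fun i _ => by simp [b]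
    rw [LinearMap.rTensor_comp, LinearMap.comp_apply] at hker
    obtain ⟨v, hv⟩ := (rTensor_exact p π.exact_subtype_ker_map hπ _).mp hker
    have hmS : ∀ w, m (LinearMap.rTensor p S w) = S (m w) := fun w => by
      induction w using TensorProduct.induction_on with
      | zero => simp
      | add a b ha hb => simp [ha, hb]
      | tmul a c => simp [m]
    have key : ∀ v : K ⊗[A] p, ∃ k' : K, m (LinearMap.rTensor p K.subtype v) = k' ∧ h k' = 0 := by
      intro v
      induction v using TensorProduct.induction_on with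
      | zero => exact ⟨0, by simp, map_zero h⟩
      | add a c ha hc =>
        obtain ⟨a', ha1, ha2⟩ := ha
        obtain ⟨c', hc1, hc2⟩ := hc
        exact ⟨a' + c', by rw [map_add, map_add, ha1, hc1]; rfl, by rw [map_add, ha2, hc2, add_zero]⟩
      | tmul a c =>
        refine ⟨(c : A) • a, by simp [m], ?_⟩
        rw [map_smul]
        obtain ⟨y, hy⟩ := Ideal.Quotient.mk_surjective (h a)
        rw [← hy]
        exact (Submodule.Quotient.mk_eq_zero p).mpr (p.mul_mem_right y c.2)
    obtain ⟨k', hk', hk'0⟩ := key v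
    rw [hv, hmS, hm] at hk'
    show h (hS.res π k) = 0
    rw [show hS.res π k = k' from Subtype.ext hk']
    exact hk'0
  let κ := p.ResidueField
  let ι : (A ⧸ p) →ₗ[A] κ := (IsScalarTower.toAlgHom A (A ⧸ p) κ).toLinearMap
  have hι : Function.Injective ι := IsFractionRing.injective (A ⧸ p) κ
  have hsurj : ∀ c : κ, ∃ a : A, a ∉ p ∧ ∃ b : A, algebraMap A κ a * c = algebraMap A κ b := fun c => by
    obtain ⟨⟨y, ⟨x, hx⟩⟩, he⟩ := IsLocalization.surj (nonZeroDivisors (A ⧸ p)) c
    obtain ⟨a, rfl⟩ := Ideal.Quotient.mk_surjective x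
    obtain ⟨b, rfl⟩ := Ideal.Quotient.mk_surjective y
    exact ⟨a, fun hmem => nonZeroDivisors.ne_zero hx (Ideal.Quotient.eq_zero_iff_mem.mpr hmem), b, by
      rw [IsScalarTower.algebraMap_apply A (A ⧸ p) κ a, IsScalarTower.algebraMap_apply A (A ⧸ p) κ b,
        mul_comm]
      exact he⟩
  let T : K →ₗ[A] (Fin n → κ) := LinearMap.pi fun i => (Algebra.linearMap A κ).comp ((LinearMap.proj i).comp K.subtype)
  let Tκ : κ ⊗[A] K →ₗ[κ] (Fin n → κ) := T.liftBaseChange κ
  let Hκ : κ ⊗[A] K →ₗ[κ] κ := (ι.comp hSK).liftBaseChange κ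
  have hfrac : ∀ z : κ ⊗[A] K, ∃ a : A, a ∉ p ∧ ∃ k : K, a • z = (1 : κ) ⊗ₜ[A] k := by
    intro z
    induction z using TensorProduct.induction_on with
    | zero => exact ⟨1, p.ne_top_iff_one.mp (Ideal.IsPrime.ne_top'), 0, by simp⟩
    | add x y hx hy =>
      obtain ⟨a, ha, k, hk⟩ := hx
      obtain ⟨a', ha', k', hk'⟩ := hy
      refine ⟨a * a', Ideal.IsPrime.mul_notMem ‹_› ha ha', a' • k + a • k', ?_⟩
      rw [smul_add, mul_comm a a', mul_smul, hk, mul_comm a' a, mul_smul, hk', TensorProduct.tmul_add,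
        TensorProduct.tmul_smul, TensorProduct.tmul_smul]
    | tmul c k =>
      obtain ⟨a, ha, b, hb⟩ := hsurj c
      refine ⟨a, ha, b • k, ?_⟩
      rw [TensorProduct.smul_tmul', Algebra.smul_def, hb, TensorProduct.tmul_smul, TensorProduct.smul_tmul',
        Algebra.smul_def, mul_one]
  have hle : LinearMap.ker Tκ ≤ LinearMap.ker Hκ := fun z hz => by
    obtain ⟨a, ha, k, hk⟩ := hfrac z
    have h0 : Tκ (a • z) = 0 := by
      rw [LinearMap.map_smul_of_tower, LinearMap.mem_ker.mp hz, smul_zero]
    rw [hk] at h0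
    simp only [Tκ, LinearMap.liftBaseChange_tmul, one_smul] at h0
    have hk0 : hSK k = 0 := hvan k fun i => Ideal.algebraMap_residueField_eq_zero.mp (congrFun h0 i)
    have h1 : Hκ (a • z) = 0 := by rw [hk]; simp [Hκ, hk0]
    rw [LinearMap.map_smul_of_tower, Algebra.smul_def, mul_eq_zero] at h1
    exact h1.resolve_left fun h => ha (Ideal.algebraMap_residueField_eq_zero.mp h)
  obtain ⟨G, hG⟩ := LinearMap.exists_extend (p := LinearMap.range Tκ)
    ((Submodule.liftQ _ Hκ hle).comp Tκ.quotKerEquivRange.symm.toLinearMap)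
  have hGT : ∀ z, G (Tκ z) = Hκ z := fun z => by
    refine (LinearMap.congr_fun hG ⟨Tκ z, LinearMap.mem_range_self Tκ z⟩).trans ?_
    simp [LinearMap.quotKerEquivRange_symm_apply_image]
  choose a ha bb hbb using fun i => hsurj (G (Pi.single i 1))
  let P := ∏ i, a i
  let c : Fin n → A := fun i => (∏ j ∈ Finset.univ.erase i, a j) * bb i
  have hc : ∀ i, algebraMap A κ P * G (Pi.single i 1) = algebraMap A κ (c i) := fun i => by
    rw [map_mul, ← hbb i, ← mul_assoc, ← map_mul, Finset.prod_erase_mul _ _ (Finset.mem_univ i)]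
  let g : (Fin n → A) →ₗ[A] A ⧸ p :=
    LinearMap.lsum A (fun _ => A) A fun i => LinearMap.toSpanSingleton A (A ⧸ p) (Ideal.Quotient.mk p (c i))
  have hPS : Lifts π (algebraMap A B P * s) (P • S) := fun v => by
    rw [LinearMap.smul_apply, map_smul, hS, Algebra.smul_def, mul_assoc]
  refine ⟨_, _, hPS, g, hq.mul_notMem ?_ hs, fun k => ?_⟩
  · intro hmem
    have hPp : P ∈ p := hp ▸ hmem
    obtain ⟨i, -, hi⟩ := (Ideal.IsPrime.prod_mem_iff (p := p)).mp hPp
    exact ha i hi
  · rw [show hPS.res π k = P • hS.res π k from rfl, map_smul]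
    apply hι
    rw [map_smul, Algebra.smul_def,
      show ι (h (hS.res π k)) = Hκ ((1 : κ) ⊗ₜ[A] k) by simp [Hκ, hSK], ← hGT]
    have hT1 : Tκ ((1 : κ) ⊗ₜ[A] k) = ∑ i, algebraMap A κ ((k : Fin n → A) i) • (Pi.single i 1 : Fin n → κ) := by
      simp only [Tκ, LinearMap.liftBaseChange_tmul, one_smul]
      funext j
      simp [T, Pi.single_apply, Algebra.algebraMap_eq_smul_one]
    rw [hT1, map_sum, Finset.mul_sum]
    simp only [g, LinearMap.lsum_apply, LinearMap.sum_apply, LinearMap.comp_apply, LinearMap.proj_apply,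
      LinearMap.toSpanSingleton_apply, map_sum, map_smul]
    refine Finset.sum_congr rfl fun i _ => ?_
    rw [smul_eq_mul, mul_left_comm, hc, Algebra.smul_def]
    rfl

theorem finite_hom (M N : Type u) [AddCommGroup M] [Module A M] [Module.Finite A M] [AddCommGroup N] [Module A N]
    [Module.Finite A N] : Module.Finite A (M →ₗ[A] N) := by
  obtain ⟨m, f, hf⟩ := Module.Finite.exists_fin' A M
  let ev : (M →ₗ[A] N) →ₗ[A] (Fin m → N) := LinearMap.pi fun i => LinearMap.applyₗ (f (Pi.single i 1))
  refine Module.Finite.of_injective ev fun φ ψ h => LinearMap.ext fun x => ?_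
  obtain ⟨v, rfl⟩ := hf x
  exact LinearMap.congr_fun ((Pi.basisFun A (Fin m)).ext fun i => by simpa [ev] using congrFun h i :
    φ.comp f = ψ.comp f) v

theorem vanish_step [Module.Finite A B] (hπ : Function.Surjective π) {N : Type u} [AddCommGroup N] [Module A N]
    [Module.Finite A N] (x : A) (hx : algebraMap A B x ∈ q) (hreg : Function.Injective fun y : N => x • y)
    (hquot : Vanish π q (N ⧸ LinearMap.range (LinearMap.lsmul A N x))) : Vanish π q N := by
  classical
  let K := LinearMap.ker π
  let R : ((Fin n → A) →ₗ[A] N) →ₗ[A] (K →ₗ[A] N) := LinearMap.lcomp A N K.subtype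
  let Q := (K →ₗ[A] N) ⧸ LinearMap.range R
  haveI : Module.Finite A (K →ₗ[A] N) := finite_hom K N
  let cls : (K →ₗ[A] N) →ₗ[A] Q := (LinearMap.range R).mkQ
  choose σ hσ using exists_lift π hπ
  let α : B → Module.End A Q := fun s => Submodule.mapQ _ _ (LinearMap.lcomp A N ((hσ s).res π)) (by
    rintro _ ⟨g, rfl⟩
    exact ⟨g.comp (σ s), rfl⟩)
  have key : ∀ (s : B) (S : (Fin n → A) →ₗ[A] (Fin n → A)) (hS : Lifts π s S) (h : K →ₗ[A] N),
      α s (cls h) = cls (h.comp (hS.res π)) := by
    intro s S hS h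
    refine (Submodule.Quotient.eq _).mpr ?_
    let D : (Fin n → A) →ₗ[A] K := LinearMap.codRestrict K (σ s - S) fun v => by
      rw [LinearMap.mem_ker, LinearMap.sub_apply, map_sub, hσ, hS, sub_self]
    exact ⟨h.comp D, LinearMap.ext fun k =>
      (congrArg h (Subtype.ext rfl : D (K.subtype k) = (hσ s).res π k - hS.res π k)).trans (map_sub h _ _)⟩
  have hmk : ∀ v : Q, ∃ h, cls h = v := Submodule.mkQ_surjective _
  let α' : B →+* Module.End A Q :=
    { toFun := α
      map_one' := LinearMap.ext fun v => by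
        obtain ⟨h, rfl⟩ := hmk v
        exact key 1 LinearMap.id (fun v => (one_mul _).symm) h
      map_mul' := fun s t => LinearMap.ext fun v => by
        obtain ⟨h, rfl⟩ := hmk v
        rw [Module.End.mul_apply, key t _ (hσ t), key s _ (hσ s),
          key (s * t) ((σ t).comp (σ s)) (fun w => by rw [LinearMap.comp_apply, hσ, hσ, ← mul_assoc, mul_comm t])]
        rfl
      map_zero' := LinearMap.ext fun v => by
        obtain ⟨h, rfl⟩ := hmk v
        rw [key 0 0 (fun w => by rw [LinearMap.zero_apply, map_zero, zero_mul])]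
        exact (congrArg cls (LinearMap.ext fun k => map_zero h)).trans (map_zero cls)
      map_add' := fun s t => LinearMap.ext fun v => by
        obtain ⟨h, rfl⟩ := hmk v
        rw [LinearMap.add_apply, key (s + t) (σ s + σ t) (fun w => by rw [LinearMap.add_apply, map_add, hσ, hσ, add_mul]),
          key t _ (hσ t), key s _ (hσ s), ← map_add cls]
        exact congrArg cls (LinearMap.ext fun k => map_add h ((hσ s).res π k) ((hσ t).res π k)) }
  letI : Module B Q := Module.compHom Q α'
  have hact : ∀ (s : B) (v : Q), s • v = α s v := fun _ _ => rfl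
  haveI : IsScalarTower A B Q := IsScalarTower.of_algebraMap_smul fun a v => by
    obtain ⟨h, rfl⟩ := hmk v
    rw [hact, key _ (a • LinearMap.id) (fun w => by rw [LinearMap.smul_apply, map_smul, LinearMap.id_apply, Algebra.smul_def]),
      ← map_smul cls]
    exact congrArg cls (LinearMap.ext fun k => map_smul h a k)
  haveI : Module.Finite B Q := Module.Finite.of_restrictScalars_finite A B Q
  have hdiv : ∀ v : Q, ∃ t ∉ q, t • v ∈ Ideal.span {algebraMap A B x} • (⊤ : Submodule B Q) := by
    intro v
    obtain ⟨h, rfl⟩ := hmk v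
    obtain ⟨t, T, hT, g₀, ht, hg₀⟩ := hquot ((LinearMap.range (LinearMap.lsmul A N x)).mkQ.comp h)
    obtain ⟨G, hG⟩ := Module.projective_lifting_property (LinearMap.range (LinearMap.lsmul A N x)).mkQ g₀
      (Submodule.mkQ_surjective _)
    refine ⟨t, ht, ?_⟩
    let d : K →ₗ[A] N := h.comp (hT.res π) - R G
    have hd : ∀ k, d k ∈ LinearMap.range (LinearMap.lsmul A N x) := fun k => by
      rw [← Submodule.Quotient.mk_eq_zero]
      exact (Submodule.Quotient.mk_sub _).trans (sub_eq_zero.mpr ((hg₀ k).trans (LinearMap.congr_fun hG k).symm))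
    let d₁ : K →ₗ[A] N :=
      (LinearEquiv.ofInjective (LinearMap.lsmul A N x) hreg).symm.toLinearMap.comp (LinearMap.codRestrict _ d hd)
    have hd₁ : ∀ k, x • d₁ k = d k := fun k =>
      congrArg Subtype.val ((LinearEquiv.ofInjective (LinearMap.lsmul A N x) hreg).apply_symm_apply
        (LinearMap.codRestrict _ d hd k))
    rw [hact, key t T hT, show h.comp (hT.res π) = x • d₁ + R G from
      LinearMap.ext fun k => by rw [LinearMap.add_apply, LinearMap.smul_apply, hd₁]; exact (sub_add_cancel _ _).symm,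
      map_add cls, map_smul cls, show cls (R G) = 0 from (Submodule.Quotient.mk_eq_zero _).mpr ⟨G, rfl⟩, add_zero,
      ← algebraMap_smul B x]
    exact Submodule.smul_mem_smul (Ideal.mem_span_singleton_self _) Submodule.mem_top
  obtain ⟨gens, hgens⟩ := (Module.Finite.fg_top : (⊤ : Submodule B Q).FG)
  choose t ht htv using hdiv
  let u := ∏ v ∈ gens, t v
  have hu : u ∉ q := prod_mem (S := q.primeCompl) fun v _ => ht v
  have hrange : LinearMap.range (algebraMap B (Module.End B Q) u) ≤ Ideal.span {algebraMap A B x} • ⊤ := by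
    rintro _ ⟨v, rfl⟩
    rw [Module.algebraMap_end_apply]
    have hv : v ∈ Submodule.span B (gens : Set Q) := hgens ▸ Submodule.mem_top
    induction hv using Submodule.span_induction with
    | mem v hv =>
      obtain ⟨w, hw⟩ : t v ∣ u := Finset.dvd_prod_of_mem t hv
      rw [hw, mul_comm, mul_smul]
      exact Submodule.smul_mem _ _ (htv v)
    | zero => rw [smul_zero]; exact Submodule.zero_mem _
    | add a b _ _ ha hb => rw [smul_add]; exact Submodule.add_mem _ ha hb
    | smul a b _ hb => rw [smul_comm]; exact Submodule.smul_mem _ _ hb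
  obtain ⟨P, hmon, -, hcoeff, hP⟩ :=
    LinearMap.exists_monic_and_natDegree_eq_and_coeff_mem_pow_and_aeval_eq_zero (R := B) _ _ hrange
  have hPq : P.eval u ∉ q := fun hmem => hu (hq.mem_of_pow_mem P.natDegree (by
    rw [Polynomial.eval_eq_sum_range, Finset.sum_range_succ, hmon.coeff_natDegree, one_mul] at hmem
    refine (Submodule.add_mem_iff_right q (Submodule.sum_mem q fun i hi => Ideal.mul_mem_right _ _ ?_)).mp hmem
    exact (Ideal.span_singleton_le_iff_mem q).mpr hx
      (Ideal.pow_le_self (by have := Finset.mem_range.mp hi; omega) (hcoeff i))))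
  intro h
  have h0 : P.eval u • cls h = 0 := by
    have := LinearMap.congr_fun hP (cls h)
    rwa [Polynomial.aeval_algebraMap_apply, Module.algebraMap_end_apply, LinearMap.zero_apply] at this
  rw [hact, key _ _ (hσ _)] at h0
  obtain ⟨g, hg⟩ := (Submodule.Quotient.mk_eq_zero _).mp h0
  exact ⟨_, _, hσ _, g, hPq, fun k => (LinearMap.congr_fun hg k).symm⟩

theorem vanish [Module.Finite A B] (hπ : Function.Surjective π) (hflat : Module.Flat A (Localization.AtPrime q))
    (N : Type u) [AddCommGroup N] [Module A N] [Module.Finite A N] : Vanish π q N := by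
  suffices H : ∀ (I : Ideal A) (N : Type u) [AddCommGroup N] [Module A N] [Module.Finite A N],
      I ≤ Module.annihilator A N → Vanish π q N from H ⊥ N bot_le
  intro I
  induction I using (wellFounded_gt (α := Ideal A)).induction with
  | _ I ih =>
    intro N _ _ hfin
    refine IsNoetherianRing.induction_on_isQuotientEquivQuotientPrime A hfin
      (motive := fun N _ _ _ => I ≤ Module.annihilator A N → Vanish π q N) ?_ ?_ ?_
    · intro N _ _ _ _ _
      exact vanish_subsingleton π q hπ N
    · intro N _ _ _ P e hI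
      refine vanish_congr π q e ?_
      have hIP : I ≤ P.1 := by
        rw [e.annihilator_eq, Ideal.annihilator_quotient] at hI
        exact hI
      by_cases hPle : P.1 ≤ q.comap (algebraMap A B)
      swap
      · obtain ⟨a, ha, haq⟩ := SetLike.not_le_iff_exists.mp hPle
        exact vanish_of_notMem π q a haq fun y => by
          obtain ⟨z, rfl⟩ := Ideal.Quotient.mk_surjective y
          exact (Submodule.Quotient.mk_eq_zero P.1).mpr (P.1.mul_mem_right z ha)
      by_cases heq : P.1 = q.comap (algebraMap A B)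
      · exact vanish_residue π q hπ hflat P.1 heq
      obtain ⟨x, hx, hxP⟩ := SetLike.exists_of_lt (lt_of_le_of_ne hPle heq)
      refine vanish_step π q hπ x hx (fun y z hyz => ?_) ?_
      · obtain ⟨y, rfl⟩ := Ideal.Quotient.mk_surjective y
        obtain ⟨z, rfl⟩ := Ideal.Quotient.mk_surjective z
        have h1 : Ideal.Quotient.mk P.1 (x * y) = Ideal.Quotient.mk P.1 (x * z) := hyz
        rw [Ideal.Quotient.eq, ← mul_sub] at h1
        exact Ideal.Quotient.eq.mpr ((P.isPrime.mem_or_mem h1).resolve_left hxP)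
      · refine ih (I ⊔ Ideal.span {x}) (lt_of_le_of_ne le_sup_left fun h => hxP (hIP ?_)) _ (sup_le ?_ ?_)
        · rw [h]
          exact Submodule.mem_sup_right (Ideal.mem_span_singleton_self x)
        · refine (hIP.trans ?_).trans (LinearMap.annihilator_le_of_surjective _ (Submodule.mkQ_surjective _))
          rw [Ideal.annihilator_quotient]
        · rw [Ideal.span_singleton_le_iff_mem, Module.mem_annihilator]
          intro v
          obtain ⟨y, rfl⟩ := Submodule.mkQ_surjective _ v
          exact (Submodule.Quotient.mk_eq_zero _).mpr ⟨y, rfl⟩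
    · intro N₁ _ _ _ N₂ _ _ _ N₃ _ _ _ f g hf hg hfg h1 h3 hI
      exact vanish_exact π q hπ f g hf hg hfg (h1 (hI.trans (LinearMap.annihilator_le_of_injective f hf)))
        (h3 (hI.trans (LinearMap.annihilator_le_of_surjective g hg)))

end Groth.L01.Disc.ExtVanish
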