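import Groth.Prelude.Def_Fitting
import Mathlib.LinearAlgebra.Matrix.Determinant.Basic
import Mathlib.LinearAlgebra.Matrix.Reindex
import Mathlib.LinearAlgebra.Matrix.Block
import Mathlib.Logic.Equiv.Fin.Basic
import Mathlib.RingTheory.Finiteness.Defs
import Mathlib.RingTheory.Localization.Module
import Mathlib.RingTheory.Localization.Integer

/-!
The zeroth Fitting ideal from one generating tuple, and localization.
-/

set_option autoImplicit false
set_option linter.unusedSectionVars false

universe u v

namespace Groth.L01.Disc.Fitt0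

variable {R : Type u} [CommRing R] {M : Type v} [AddCommGroup M] [Module R M]

/-- determinants of square matrices of relations -/
def rel0 {n : ℕ} (x : Fin n → M) : Ideal R :=
  Ideal.span {d | ∃ a : Matrix (Fin n) (Fin n) R, (∀ i, ∑ j, a i j • x j = 0) ∧ d = a.det}

theorem det_mem_of_relations {n : ℕ} (x : Fin n → M) : ∀ (m : ℕ) (U : Matrix (Fin (n + m)) (Fin (n + m)) R),
    (∀ r, ∑ i : Fin n, U r (Fin.castAdd m i) • x i = 0) → U.det ∈ rel0 (R := R) x
  | 0, U, h => Ideal.subset_span ⟨U, h, rfl⟩
  | m + 1, U, h => by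
    show Matrix.det (n := Fin ((n + m) + 1)) U ∈ _
    rw [Matrix.det_succ_column (n := n + m) U (Fin.last (n + m))]
    refine Submodule.sum_mem _ fun r _ => Ideal.mul_mem_left _ _ (det_mem_of_relations x m _ fun s => ?_)
    refine (Finset.sum_congr rfl fun i _ => ?_).trans (h (r.succAbove s))
    rw [Matrix.submatrix_apply, Fin.succAbove_last]
    rfl

theorem det_mem_rel0 {n m : ℕ} (x : Fin n → M) (y : Fin m → M) (hx : Submodule.span R (Set.range x) = ⊤)
    (hy : Submodule.span R (Set.range y) = ⊤) (a : Matrix (Fin m) (Fin m) R) (ha : ∀ i, ∑ j, a i j • y j = 0) :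
    a.det ∈ rel0 (R := R) x := by
  classical
  have hP : ∀ j, ∃ P : Fin n → R, ∑ k, P k • x k = y j := fun j =>
    (Submodule.mem_span_range_iff_exists_fun R).mp (hx ▸ Submodule.mem_top)
  have hQ : ∀ i, ∃ Q : Fin m → R, ∑ j, Q j • y j = x i := fun i =>
    (Submodule.mem_span_range_iff_exists_fun R).mp (hy ▸ Submodule.mem_top)
  choose P hP using hP
  choose Q hQ using hQ
  let W : Matrix (Fin n ⊕ Fin m) (Fin n ⊕ Fin m) R := Matrix.fromBlocks 1 (-Matrix.of Q) 0 a
  let C : Matrix (Fin n ⊕ Fin m) (Fin n ⊕ Fin m) R := Matrix.fromBlocks 1 0 (Matrix.of P) 1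
  let U : Matrix (Fin (n + m)) (Fin (n + m)) R := Matrix.reindex finSumFinEquiv finSumFinEquiv (W * C)
  have hdet : U.det = a.det := by
    rw [Matrix.det_reindex_self, Matrix.det_mul, Matrix.det_fromBlocks_zero₂₁, Matrix.det_fromBlocks_zero₁₂]
    simp
  rw [← hdet]
  refine det_mem_of_relations x m U fun r => ?_
  obtain ⟨r, rfl⟩ := finSumFinEquiv.surjective r
  let z : Fin n ⊕ Fin m → M := Sum.elim x y
  have hW : ∀ r, ∑ k, W r k • z k = 0 := by
    rintro (i | i)
    · rw [Fintype.sum_sum_type]
      simp only [W, z, Matrix.fromBlocks_apply₁₁, Matrix.fromBlocks_apply₁₂, Sum.elim_inl, Sum.elim_inr,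
        Matrix.one_apply, ite_smul, one_smul, zero_smul, Finset.sum_ite_eq, Finset.mem_univ, if_true,
        Matrix.neg_apply, Matrix.of_apply, neg_smul, Finset.sum_neg_distrib, hQ i, add_neg_cancel]
    · rw [Fintype.sum_sum_type]
      simp only [W, z, Matrix.fromBlocks_apply₂₁, Matrix.fromBlocks_apply₂₂, Sum.elim_inl, Sum.elim_inr,
        Matrix.zero_apply, zero_smul, Finset.sum_const_zero, zero_add, ha i]
  have hC : ∀ k, ∑ i : Fin n, C k (Sum.inl i) • x i = z k := by
    rintro (i | j)
    · simp only [C, z, Matrix.fromBlocks_apply₁₁, Sum.elim_inl, Matrix.one_apply, ite_smul, one_smul, zero_smul,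
        Finset.sum_ite_eq, Finset.mem_univ, if_true]
    · simp only [C, z, Matrix.fromBlocks_apply₂₁, Sum.elim_inr, Matrix.of_apply, hP j]
  calc ∑ i : Fin n, U (finSumFinEquiv r) (Fin.castAdd m i) • x i
      = ∑ i : Fin n, (W * C) r (Sum.inl i) • x i := by
        refine Finset.sum_congr rfl fun i _ => ?_
        rw [← finSumFinEquiv_apply_left]
        simp only [U, Matrix.reindex_apply, Matrix.submatrix_apply, Equiv.symm_apply_apply]
    _ = ∑ k, W r k • ∑ i : Fin n, C k (Sum.inl i) • x i := by
        simp only [Matrix.mul_apply, Finset.sum_smul, Finset.smul_sum, mul_smul]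
        exact Finset.sum_comm
    _ = 0 := by simp only [hC]; exact hW r

/-- One generating tuple computes the zeroth Fitting ideal. -/
theorem ideal_zero_eq {n : ℕ} (x : Fin n → M) (hx : Submodule.span R (Set.range x) = ⊤) :
    Fitt.ideal R M 0 = rel0 (R := R) x := by
  refine le_antisymm (Ideal.span_le.mpr ?_) (Ideal.span_le.mpr ?_)
  · rintro d ⟨m, y, a, hy, ha, rfl⟩
    exact det_mem_rel0 x y hx hy a fun i => ha i i.2
  · rintro d ⟨a, ha, rfl⟩
    exact Ideal.subset_span ⟨n, x, a, hx, fun i _ => ha i, rfl⟩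

/-- Relations spanned by the rows of a square matrix. -/
theorem rel0_eq_span_det {n : ℕ} (x : Fin n → M) (J : Matrix (Fin n) (Fin n) R) (hJ : ∀ i, ∑ j, J i j • x j = 0)
    (hall : ∀ c : Fin n → R, ∑ j, c j • x j = 0 → ∃ w : Fin n → R, ∀ j, c j = ∑ i, w i * J i j) :
    rel0 (R := R) x = Ideal.span {J.det} := by
  refine le_antisymm (Ideal.span_le.mpr ?_) ?_
  · rintro d ⟨a, ha, rfl⟩
    choose w hw using fun i => hall (a i) (ha i)
    have : a = Matrix.of w * J := by
      ext i j
      rw [Matrix.mul_apply]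
      exact hw i j
    rw [this, Matrix.det_mul]
    exact Ideal.mul_mem_left _ _ (Ideal.mem_span_singleton_self _)
  · rw [Ideal.span_singleton_le_iff_mem]
    exact Ideal.subset_span ⟨J, hJ, rfl⟩

section Loc

variable (S : Submonoid R) (R' : Type u) [CommRing R'] [Algebra R R'] [IsLocalization S R']
  {M' : Type v} [AddCommGroup M'] [Module R M'] [Module R' M'] [IsScalarTower R R' M']
  (f : M →ₗ[R] M') [IsLocalizedModule S f]

include S f in
theorem ideal_zero_map [Module.Finite R M] :
    Fitt.ideal R' M' 0 = (Fitt.ideal R M 0).map (algebraMap R R') := by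
  classical
  obtain ⟨n, x, hx⟩ := Module.Finite.exists_fin (R := R) (M := M)
  have hfx : Submodule.span R' (Set.range fun i => f (x i)) = ⊤ := by
    rw [show Set.range (fun i => f (x i)) = f '' Set.range x from Set.range_comp f x]
    exact span_eq_top_of_isLocalizedModule R' S f hx
  rw [ideal_zero_eq x hx, ideal_zero_eq _ hfx]
  refine le_antisymm (Ideal.span_le.mpr ?_) (Ideal.map_le_iff_le_comap.mpr (Ideal.span_le.mpr ?_))
  · rintro d ⟨a, ha, rfl⟩
    obtain ⟨⟨s, hs⟩, hsden⟩ := IsLocalization.exist_integer_multiples_of_finite S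
      (S := R') (fun ij : Fin n × Fin n => a ij.1 ij.2)
    choose num hnum using hsden
    have h0 : ∀ i, ∃ t : S, (t : R) • ∑ j, num (i, j) • x j = 0 := fun i => by
      have : f (∑ j, num (i, j) • x j) = 0 := by
        rw [map_sum]
        calc ∑ j, f (num (i, j) • x j) = ∑ j, s • (a i j • f (x j)) := by
              refine Finset.sum_congr rfl fun j _ => ?_
              rw [map_smul, ← smul_assoc, ← show algebraMap R R' (num (i, j)) = s • a i j from hnum (i, j),
                algebraMap_smul]
          _ = 0 := by rw [← Finset.smul_sum, ha i, smul_zero]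
      obtain ⟨t, ht⟩ := (IsLocalizedModule.eq_zero_iff S f).mp this
      exact ⟨t, ht⟩
    choose t ht using h0
    let T : R := ∏ i, (t i : R)
    have hT : T ∈ S := prod_mem fun i _ => (t i).2
    let b : Matrix (Fin n) (Fin n) R := Matrix.of fun i j => T * num (i, j)
    have hb : b.det ∈ rel0 (R := R) x := Ideal.subset_span ⟨b, fun i => by
      obtain ⟨r, hr⟩ : (t i : R) ∣ T := Finset.dvd_prod_of_mem (fun i => (t i : R)) (Finset.mem_univ i)
      simp only [b, Matrix.of_apply, mul_smul, ← Finset.smul_sum]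
      rw [hr, mul_comm, mul_smul, ht i, smul_zero], rfl⟩
    have hmat : b.map (algebraMap R R') = algebraMap R R' (T * s) • a := by
      ext i j
      rw [Matrix.map_apply, Matrix.smul_apply, smul_eq_mul, map_mul, mul_assoc,
        show b i j = T * num (i, j) from rfl, map_mul, hnum (i, j)]
      simp [Algebra.smul_def]
    have hdet : algebraMap R R' b.det = algebraMap R R' (T * s) ^ n * a.det := by
      rw [RingHom.map_det, RingHom.mapMatrix_apply, hmat, Matrix.det_smul, Fintype.card_fin]
    obtain ⟨u, hu⟩ := (IsLocalization.map_units R' (⟨T * s, mul_mem hT hs⟩ : S)).pow n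
    have : a.det = (↑u⁻¹ : R') * algebraMap R R' b.det := by
      rw [hdet, ← hu, ← mul_assoc, Units.inv_mul, one_mul]
    rw [SetLike.mem_coe, this]
    exact Ideal.mul_mem_left _ _ (Ideal.mem_map_of_mem _ hb)
  · rintro d ⟨a, ha, rfl⟩
    refine Ideal.subset_span ⟨a.map (algebraMap R R'), fun i => ?_, RingHom.map_det _ _⟩
    have := congrArg f (ha i)
    rw [map_sum, map_zero] at this
    simpa [algebraMap_smul] using this

end Loc

end Groth.L01.Disc.Fitt0
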