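import Groth.Agent.L01.Disc.Linear
import Groth.Agent.L21.GorensteinFlat
import Mathlib.RingTheory.HopkinsLevitzki
import Mathlib.RingTheory.Artinian.Ring
import Mathlib.Algebra.Category.ModuleCat.InjectiveDimension
import Mathlib.RingTheory.Spectrum.Prime.FreeLocus
import Mathlib.LinearAlgebra.Basis.VectorSpace

/-!
Gorenstein fibres and invertibility of the dualizing module.
-/

set_option autoImplicit false
set_option linter.style.haveILetI false
set_option linter.unusedSectionVars false

universe u

namespace Groth.L01.Disc.GorFibre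

open TensorProduct CategoryTheory

section Field

variable {k R : Type u} [Field k] [CommRing R] [Algebra k R] [FiniteDimensional k R]

/-- a functional without ideals in its kernel -/
def Nondeg (θ : R →ₗ[k] k) : Prop := ∀ r : R, (∀ x, θ (r * x) = 0) → r = 0

theorem exists_mul {θ : R →ₗ[k] k} (hθ : Nondeg θ) (φ : R →ₗ[k] k) : ∃ r, ∀ x, φ x = θ (r * x) := by
  let T : R →ₗ[k] Module.Dual k R := (LinearMap.mul k R).compr₂ θ
  have hinj : Function.Injective T := by
    rw [injective_iff_map_eq_zero]
    exact fun r hr => hθ r fun x => LinearMap.congr_fun hr x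
  obtain ⟨r, hr⟩ :=
    (LinearMap.injective_iff_surjective_of_finrank_eq_finrank Subspace.dual_finrank_eq.symm).mp hinj φ
  exact ⟨r, fun x => LinearMap.congr_fun hr.symm x⟩

theorem extend_mul {θ : R →ₗ[k] k} (hθ : Nondeg θ) (J : Ideal R) (g : J →ₗ[R] R) :
    ∃ r, ∀ j : J, g j = r * (j : R) := by
  obtain ⟨φ, hφ⟩ := LinearMap.exists_extend (p := J.restrictScalars k) (θ ∘ₗ g.restrictScalars k)
  obtain ⟨r, hr⟩ := exists_mul hθ φ
  refine ⟨r, fun j => sub_eq_zero.mp (hθ _ fun x => ?_)⟩
  rw [sub_mul, map_sub, sub_eq_zero, mul_comm (g j) x, ← smul_eq_mul, ← map_smul, mul_assoc, mul_comm (j : R) x,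
    ← hr]
  exact (LinearMap.congr_fun hφ (x • j)).symm

theorem isGorensteinRing {θ : R →ₗ[k] k} (hθ : Nondeg θ) : LocCoh.IsGorensteinRing R := by
  haveI : IsArtinianRing R := IsArtinianRing.of_finite k R
  refine { isGorensteinLocalRing_localization := fun P _ => ?_ }
  let L := Localization.AtPrime P
  let π := algebraMap R L
  have hπ : Function.Surjective π := IsArtinianRing.localization_surjective P.primeCompl L
  haveI : IsNoetherianRing L := IsLocalization.isNoetherianRing P.primeCompl _ inferInstance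
  -- an idempotent splitting
  obtain ⟨t, ht⟩ := (IsNoetherian.noetherian (RingHom.ker π) : (RingHom.ker π).FG)
  have hk : ∀ z : t, ∃ s : P.primeCompl, (s : R) * z = 0 := fun z =>
    (IsLocalization.map_eq_zero_iff P.primeCompl L _).mp
      (RingHom.mem_ker.mp (ht ▸ Ideal.subset_span z.2 : (z : R) ∈ RingHom.ker π))
  choose s hs using hk
  let S : R := ∏ z : t, (s z : R)
  have hS : S ∈ P.primeCompl := prod_mem fun z _ => (s z).2
  obtain ⟨u, hu⟩ := hπ ↑(IsLocalization.map_units L (⟨S, hS⟩ : P.primeCompl)).unit⁻¹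
  let e := u * S
  have he : π e = 1 := by rw [map_mul, hu]; exact IsUnit.val_inv_mul _
  have hkill : ∀ z ∈ RingHom.ker π, e * z = 0 := by
    intro z hz
    rw [← ht] at hz
    induction hz using Submodule.span_induction with
    | mem z hz =>
      obtain ⟨w, hw⟩ : (s ⟨z, hz⟩ : R) ∣ S := Finset.dvd_prod_of_mem (fun z => (s z : R)) (Finset.mem_univ _)
      simp only [e, hw]
      rw [mul_assoc, mul_comm _ w, mul_assoc, hs ⟨z, hz⟩, mul_zero, mul_zero]
    | zero => exact mul_zero e
    | add a b _ _ ha hb => rw [mul_add, ha, hb, add_zero]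
    | smul a b _ hb => rw [smul_eq_mul, mul_left_comm, hb, mul_zero]
  have hwd : ∀ x y, π x = π y → e * x = e * y := fun x y h => by
    rw [← sub_eq_zero, ← mul_sub]
    exact hkill _ (RingHom.mem_ker.mpr (by rw [map_sub, h, sub_self]))
  choose lift hlift using hπ
  have hinj : Module.Injective L L := Module.Baer.injective fun J g => by
    let g' : (J.comap π) →ₗ[R] R :=
      { toFun := fun j => e * lift (g ⟨π j, j.2⟩)
        map_add' := fun a b => by
          rw [← mul_add]
          refine hwd _ _ ?_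
          rw [map_add π, hlift, hlift, hlift, ← map_add g]
          congr 1
          exact Subtype.ext (map_add π _ _)
        map_smul' := fun a b => by
          rw [RingHom.id_apply, smul_eq_mul, mul_left_comm]
          refine hwd _ _ ?_
          rw [map_mul, hlift, hlift, ← smul_eq_mul, ← map_smul]
          congr 1
          exact Subtype.ext (map_mul π _ _) }
    obtain ⟨r, hr⟩ := extend_mul hθ _ g'
    refine ⟨LinearMap.mulLeft L (π r), fun x hx => ?_⟩
    have h1 := congrArg π (hr ⟨lift x, show π (lift x) ∈ J by rw [hlift]; exact hx⟩)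
    change π (e * lift (g ⟨π (lift x), _⟩)) = π (r * lift x) at h1
    rw [map_mul, he, one_mul, hlift, map_mul] at h1
    simp only [hlift] at h1
    exact h1.symm
  exact { exists_hasInjectiveDimensionLT :=
            haveI : CategoryTheory.Injective (ModuleCat.of L L) := Module.injective_object_of_injective_module L L
            ⟨1, inferInstance⟩ }

theorem exists_nondeg [LocCoh.IsGorensteinRing R] : ∃ θ : R →ₗ[k] k, Nondeg θ := by
  classical
  haveI : IsArtinianRing R := IsArtinianRing.of_finite k R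
  have huniq : ∀ (m : Ideal R) (_ : m.IsMaximal) (y y' : R), y' ≠ 0 → (∀ a ∈ m, a * y = 0) → (∀ a ∈ m, a * y' = 0) →
      ∃ c, y = c * y' := by
    intro m hm y y' hy' hy hy'm
    let L := Localization.AtPrime m
    let π := algebraMap R L
    have hπ : Function.Surjective π := IsArtinianRing.localization_surjective m.primeCompl L
    haveI := LocCoh.IsGorensteinRing.isGorensteinLocalRing_localization (A := R) m
    have hinj : ∀ z, (∀ a ∈ m, a * z = 0) → π z = 0 → z = 0 := fun z hz h0 => by
      obtain ⟨t, ht⟩ := (IsLocalization.map_eq_zero_iff m.primeCompl L z).mp h0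
      obtain ⟨b, i, hi, hbi⟩ := hm.exists_inv t.2
      rw [← one_mul z, ← hbi, add_mul, mul_assoc, ht, mul_zero, hz i hi, add_zero]
    have hloc : ∀ z, (∀ a ∈ m, a * z = 0) → ∀ a ∈ IsLocalRing.maximalIdeal L, a * π z = 0 := fun z hz a ha => by
      obtain ⟨b, rfl⟩ := hπ a
      rw [← map_mul, hz b ((IsLocalization.AtPrime.to_map_mem_maximal_iff L m b).mp ha), map_zero]
    have hy'0 : π y' ≠ 0 := fun h => hy' (hinj y' hy'm h)
    obtain ⟨-, s, hs, hdiv⟩ := Groth.L21.GorensteinFlat.exists_socle_generator L (π y') hy'0 (hloc y' hy'm)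
    obtain ⟨a, ha⟩ := hdiv (π y) (hloc y hy)
    obtain ⟨b, hb⟩ := hdiv (π y') (hloc y' hy'm)
    have hbu : IsUnit b := by
      by_contra hnb
      exact hy'0 (by rw [hb, mul_comm]; exact (hs b).mp hnb)
    obtain ⟨c, hc⟩ := hπ (a * ↑hbu.unit⁻¹)
    refine ⟨c, sub_eq_zero.mp (hinj _ (fun x hx => ?_) ?_)⟩
    · rw [mul_sub, hy x hx, mul_left_comm, hy'm x hx, mul_zero, sub_zero]
    · rw [map_sub, map_mul, hc, ha, hb, sub_eq_zero, mul_comm s b, ← mul_assoc, mul_assoc a, IsUnit.val_inv_mul,
        mul_one, mul_comm]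
  let Q := {m : MaximalSpectrum R // ∃ y : R, y ≠ 0 ∧ ∀ a ∈ m.asIdeal, a * y = 0}
  haveI : Fintype Q := Fintype.ofFinite Q
  let y : Q → R := fun m => m.2.choose
  have hy0 : ∀ m : Q, y m ≠ 0 := fun m => m.2.choose_spec.1
  have hym : ∀ (m : Q), ∀ a ∈ m.1.asIdeal, a * y m = 0 := fun m => m.2.choose_spec.2
  have hann : ∀ (m : Q) (a : R), a * y m = 0 → a ∈ m.1.asIdeal := fun m a ha => by
    by_contra hn
    obtain ⟨b, i, hi, hbi⟩ := m.1.isMaximal.exists_inv hn
    exact hy0 m (by rw [← one_mul (y m), ← hbi, add_mul, mul_assoc, ha, mul_zero, hym m i hi, add_zero])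
  have hli : LinearIndependent k y := by
    rw [Fintype.linearIndependent_iff]
    intro c hc m₀
    have hsep : ∀ m : Q, ∃ e : R, (m ≠ m₀ → e ∈ m.1.asIdeal) ∧ e ∉ m₀.1.asIdeal := fun m => by
      by_cases h : m = m₀
      · exact ⟨1, fun h' => absurd h h', (Ideal.ne_top_iff_one _).mp m₀.1.isMaximal.ne_top⟩
      · obtain ⟨e, he, he'⟩ := SetLike.not_le_iff_exists.mp fun hle : m.1.asIdeal ≤ m₀.1.asIdeal =>
          h (Subtype.ext (MaximalSpectrum.ext (m.1.isMaximal.eq_of_le m₀.1.isMaximal.ne_top hle)))
        exact ⟨e, fun _ => he, he'⟩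
    choose e he he' using hsep
    let E := ∏ m : Q, e m
    have hE : E ∉ m₀.1.asIdeal := fun h => by
      obtain ⟨m, -, hm⟩ := (m₀.1.isMaximal.isPrime.prod_mem_iff).mp h
      exact he' m hm
    have h1 := congrArg (E * ·) hc
    simp only [Finset.mul_sum, mul_zero, mul_smul_comm] at h1
    rw [Finset.sum_eq_single m₀] at h1
    · by_contra hne
      exact hE (hann m₀ E ((smul_eq_zero.mp h1).resolve_left hne))
    · intro m _ hm
      rw [hym m E ?_, smul_zero]
      obtain ⟨w, hw⟩ : e m ∣ E := Finset.dvd_prod_of_mem e (Finset.mem_univ m)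
      rw [hw]
      exact Ideal.mul_mem_right _ _ (he m hm)
    · simp
  obtain ⟨θ, hθ⟩ := LinearMap.exists_extend (p := Submodule.span k (Set.range y))
    ((Module.Basis.span hli).constr k fun _ => (1 : k))
  have hθy : ∀ m, θ (y m) = 1 := fun m => by
    have h := LinearMap.congr_fun hθ ((Module.Basis.span hli) m)
    rw [Module.Basis.constr_basis, LinearMap.comp_apply, Submodule.subtype_apply, Module.Basis.span_apply] at h
    exact h
  refine ⟨θ, fun r hr => by_contra fun hr0 => ?_⟩
  haveI : Nontrivial (Ideal.span {r}) := ⟨⟨r, Ideal.mem_span_singleton_self r⟩, 0, fun h => hr0 (congrArg Subtype.val h)⟩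
  obtain ⟨P, hP⟩ := associatedPrimes.nonempty R (Ideal.span {r})
  obtain ⟨hPp, ⟨z, hz⟩, hPz⟩ := isAssociatedPrime_iff.mp (show IsAssociatedPrime P (Ideal.span {r}) from hP)
  haveI := hPp
  have hPmax : P.IsMaximal := IsArtinianRing.isMaximal_of_isPrime P
  have hmem : ∀ a, a ∈ P ↔ a * z = 0 := fun a => by
    rw [hPz, Submodule.mem_colon_singleton, Submodule.mem_bot, Subtype.ext_iff]
    rfl
  have hz0 : z ≠ 0 := fun h => hPp.ne_top ((Ideal.eq_top_iff_one P).mpr ((hmem 1).mpr (by rw [h, mul_zero])))
  let m : Q := ⟨⟨P, hPmax⟩, z, hz0, fun a ha => (hmem a).mp ha⟩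
  obtain ⟨c, hc⟩ := huniq P hPmax (y m) z hz0 (hym m) fun a ha => (hmem a).mp ha
  obtain ⟨a, rfl⟩ := Ideal.mem_span_singleton'.mp hz
  refine one_ne_zero (α := k) ?_
  rw [← hθy m, hc, ← mul_assoc, mul_comm]
  exact hr _

theorem nondeg_iff {ι : Type u} [Fintype ι] [DecidableEq ι] (e : Module.Basis ι k R) (θ : R →ₗ[k] k) :
    Nondeg θ ↔ (Matrix.of fun i j => θ (e i * e j)).det ≠ 0 := by
  have key : ∀ r j, θ (r * e j) = Matrix.vecMul (e.repr r) (Matrix.of fun i j => θ (e i * e j)) j := fun r j => by
    conv_lhs => rw [← e.sum_repr r, Finset.sum_mul, map_sum]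
    refine Finset.sum_congr rfl fun i _ => ?_
    rw [smul_mul_assoc, map_smul, smul_eq_mul]
    rfl
  constructor
  · intro hθ hdet
    obtain ⟨v, hv, hv0⟩ := Matrix.exists_vecMul_eq_zero_iff.mpr hdet
    refine hv (funext fun i => ?_)
    have hr : ∑ i, v i • e i = 0 := hθ _ fun x => by
      rw [← e.sum_repr x, Finset.mul_sum, map_sum]
      refine Finset.sum_eq_zero fun j _ => ?_
      rw [mul_smul_comm, map_smul, key, e.repr_sum_self, hv0, Pi.zero_apply, smul_zero]
    exact (Fintype.linearIndependent_iff.mp e.linearIndependent v hr) i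
  · intro hdet r hr
    have hv : Matrix.vecMul (e.repr r) (Matrix.of fun i j => θ (e i * e j)) = 0 :=
      funext fun j => (key r j).symm.trans (hr _)
    have := Matrix.eq_zero_of_vecMul_eq_zero hdet hv
    exact e.ext_elem fun i => by rw [map_zero]; exact congrFun this i

end Field

variable {A B : Type u} [CommRing A] [CommRing B] [Algebra A B]
variable {ι : Type u} [Fintype ι] [DecidableEq ι] (e : Module.Basis ι A B)

/-- the matrix of a functional -/
noncomputable def gram (θ : B →ₗ[A] A) : Matrix ι ι A := Matrix.of fun i j => θ (e i * e j)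

/-- the functional on a fibre -/
noncomputable def fibreMap (p : Ideal A) [p.IsPrime] (θ : B →ₗ[A] A) : p.Fiber B →ₗ[p.ResidueField] p.ResidueField :=
  (TensorProduct.AlgebraTensorModule.rid A p.ResidueField p.ResidueField).toLinearMap ∘ₗ θ.baseChange p.ResidueField

theorem det_fibreMap (p : Ideal A) [p.IsPrime] (θ : B →ₗ[A] A) :
    (Matrix.of fun i j => fibreMap p θ
      (Algebra.TensorProduct.basis p.ResidueField e i * Algebra.TensorProduct.basis p.ResidueField e j)).det =
      algebraMap A p.ResidueField (gram e θ).det := by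
  rw [RingHom.map_det]
  congr 1
  ext i j
  simp [fibreMap, gram, Algebra.TensorProduct.basis_apply, Algebra.TensorProduct.tmul_mul_tmul, Algebra.smul_def]

include e in
theorem isGorensteinRing_fiber (p : Ideal A) [p.IsPrime] (θ : B →ₗ[A] A) (hθ : (gram e θ).det ∉ p) :
    LocCoh.IsGorensteinRing (p.Fiber B) := by
  haveI := Module.Finite.of_basis e
  refine isGorensteinRing (k := p.ResidueField) (θ := fibreMap p θ)
    ((nondeg_iff (Algebra.TensorProduct.basis p.ResidueField e) _).mpr ?_)
  rw [det_fibreMap]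
  exact fun h => hθ (Ideal.algebraMap_residueField_eq_zero.mp h)

include e in
theorem exists_gram_notMem (p : Ideal A) [p.IsMaximal] [LocCoh.IsGorensteinRing (p.Fiber B)] :
    ∃ θ : B →ₗ[A] A, (gram e θ).det ∉ p := by
  haveI := Module.Finite.of_basis e
  obtain ⟨ψ, hψ⟩ := exists_nondeg (k := p.ResidueField) (R := p.Fiber B)
  choose c hc using fun i => p.algebraMap_residueField_surjective (ψ (Algebra.TensorProduct.basis p.ResidueField e i))
  refine ⟨e.constr A c, fun hmem => (nondeg_iff (Algebra.TensorProduct.basis p.ResidueField e) ψ).mp hψ ?_⟩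
  have h : fibreMap p (e.constr A c) = ψ := (Algebra.TensorProduct.basis p.ResidueField e).ext fun i => by
    rw [← hc i]
    simp [fibreMap, Algebra.TensorProduct.basis_apply, Algebra.smul_def]
  rw [← h, det_fibreMap, Ideal.algebraMap_residueField_eq_zero]
  exact hmem

include e in
theorem invertible_of_gram (h : ∀ p : Ideal A, p.IsMaximal → ∃ θ : B →ₗ[A] A, (gram e θ).det ∉ p) :
    Module.Invertible B (Disc.Omega A B) := by
  classical
  have data : ∀ p : Ideal A, p.IsMaximal → ∃ (g : A) (θ : Disc.Omega A B), g ∉ p ∧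
      (∀ l : Disc.Omega A B, ∃ c : B, algebraMap A B g • l = c • θ) ∧
      ∀ d : B, d • θ = 0 → algebraMap A B g * d = 0 := by
    intro p hp
    obtain ⟨θ, hθ⟩ := h p hp
    let G := gram e θ
    refine ⟨G.det, ⟨θ⟩, hθ, fun l => ⟨∑ k, (∑ j, l.toLinearMap (e j) * G.adjugate j k) • e k, ?_⟩, fun d hd => ?_⟩
    · apply Disc.Omega.toLinearMap_injective
      refine e.ext fun m => ?_
      rw [Disc.Omega.smul_toLinearMap_apply, Disc.Omega.smul_toLinearMap_apply, ← Algebra.smul_def, map_smul,
        smul_eq_mul, Finset.sum_mul, map_sum]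
      simp only [smul_mul_assoc, map_smul, smul_eq_mul, Finset.sum_mul]
      rw [Finset.sum_comm]
      have hk : ∀ j, ∑ k, l.toLinearMap (e j) * G.adjugate j k * θ (e k * e m) =
          if j = m then G.det * l.toLinearMap (e j) else 0 := fun j => by
        simp only [mul_assoc]
        rw [← Finset.mul_sum, show ∑ k, G.adjugate j k * θ (e k * e m) = (G.adjugate * G) j m from
          by rw [Matrix.mul_apply]; rfl, Matrix.adjugate_mul, Matrix.smul_apply, Matrix.one_apply]
        split_ifs <;> simp [mul_comm]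
      rw [Finset.sum_congr rfl fun j _ => hk j, Finset.sum_ite_eq']
      simp
    · have hv : Matrix.vecMul (e.repr d) G = 0 := funext fun j => by
        have h1 := congrArg (fun l : Disc.Omega A B => l.toLinearMap (e j)) hd
        simp only [Disc.Omega.smul_toLinearMap_apply, Disc.Omega.zero_toLinearMap, LinearMap.zero_apply] at h1
        rw [← e.sum_repr d, Finset.sum_mul, map_sum] at h1
        refine (Finset.sum_congr rfl fun i _ => ?_).trans h1
        rw [smul_mul_assoc, map_smul, smul_eq_mul]
        rfl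
      refine e.ext_elem fun i => ?_
      have h2 := congrFun (congrArg (fun v => Matrix.vecMul v G.adjugate) hv) i
      simp only [Matrix.vecMul_vecMul, Matrix.mul_adjugate, Matrix.vecMul_smul, Matrix.vecMul_one, Pi.smul_apply,
        Matrix.zero_vecMul, Pi.zero_apply] at h2
      rw [← Algebra.smul_def, map_smul, Finsupp.smul_apply, map_zero, Finsupp.zero_apply]
      exact h2
  have span : ∀ T : Ideal B,
      (∀ g θ, (∀ l : Disc.Omega A B, ∃ c : B, algebraMap A B g • l = c • θ) →
        (∀ d : B, d • θ = 0 → algebraMap A B g * d = 0) → algebraMap A B (g ^ 2) ∈ T) → T = ⊤ := by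
    intro T hT
    refine (Ideal.eq_top_iff_one _).mpr ?_
    by_contra hne
    obtain ⟨p, hp, hle⟩ := Ideal.exists_le_maximal (T.comap (algebraMap A B)) fun h => hne (by
      have h1 : (1 : A) ∈ T.comap (algebraMap A B) := h ▸ Submodule.mem_top
      rwa [Ideal.mem_comap, map_one] at h1)
    obtain ⟨g, θ, hg, h1, h2⟩ := data p hp
    exact hg (hp.isPrime.mem_of_pow_mem 2 (hle (hT g θ h1 h2)))
  refine ⟨⟨?_, ?_⟩⟩
  · rw [injective_iff_map_eq_zero]
    intro z hz
    have hT := span ((⊥ : Submodule B (Module.Dual B (Disc.Omega A B) ⊗[B] Disc.Omega A B)).colon {z}) 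
      fun g θ h1 h2 => by
        have step : ∀ z : Module.Dual B (Disc.Omega A B) ⊗[B] Disc.Omega A B, ∃ ψ : Module.Dual B (Disc.Omega A B),
            algebraMap A B g • z = ψ ⊗ₜ[B] θ ∧ ψ θ = algebraMap A B g * contractLeft B (Disc.Omega A B) z := by
          intro z
          induction z using TensorProduct.induction_on with
          | zero => exact ⟨0, by simp, by simp⟩
          | add a b ha hb =>
            obtain ⟨ψ, hψ, hψ'⟩ := ha
            obtain ⟨χ, hχ, hχ'⟩ := hb
            exact ⟨ψ + χ, by rw [smul_add, hψ, hχ, TensorProduct.add_tmul],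
              by rw [LinearMap.add_apply, hψ', hχ', map_add, mul_add]⟩
          | tmul ψ l =>
            obtain ⟨c, hc⟩ := h1 l
            refine ⟨c • ψ, ?_, ?_⟩
            · rw [← TensorProduct.tmul_smul, hc, TensorProduct.smul_tmul]
            · rw [LinearMap.smul_apply, ← map_smul, ← hc, map_smul, contractLeft_apply, smul_eq_mul]
        obtain ⟨ψ, hψ, hψ'⟩ := step z
        rw [hz, mul_zero] at hψ'
        have hψ0 : algebraMap A B g • ψ = 0 := LinearMap.ext fun l => by
          obtain ⟨c, hc⟩ := h1 l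
          rw [LinearMap.smul_apply, ← map_smul, hc, map_smul, hψ', smul_zero, LinearMap.zero_apply]
        rw [Submodule.mem_colon_singleton, Submodule.mem_bot, map_pow, pow_two, mul_smul, hψ,
          TensorProduct.smul_tmul', hψ0, TensorProduct.zero_tmul]
    have h1 : (1 : B) ∈ (⊥ : Submodule B (Module.Dual B (Disc.Omega A B) ⊗[B] Disc.Omega A B)).colon {z} :=
      hT ▸ Submodule.mem_top
    rwa [Submodule.mem_colon_singleton, Submodule.mem_bot, one_smul] at h1
  · rw [← LinearMap.range_eq_top]
    refine span _ fun g θ h1 h2 => ?_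
    choose c hc using h1
    have hu : ∀ d d' : B, d • θ = d' • θ → algebraMap A B g * d = algebraMap A B g * d' := fun d d' h => by
      rw [← sub_eq_zero, ← mul_sub]
      exact h2 _ (by rw [sub_smul, h, sub_self])
    let Φ : Disc.Omega A B →ₗ[B] B :=
      { toFun := fun l => algebraMap A B g * c l
        map_add' := fun l l' => by
          rw [← mul_add]
          exact hu _ _ (by rw [← hc, smul_add, hc, hc, add_smul])
        map_smul' := fun d l => by
          rw [RingHom.id_apply, smul_eq_mul, mul_left_comm]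
          exact hu _ _ (by rw [← hc, smul_comm, hc, mul_smul]) }
    refine ⟨Φ ⊗ₜ[B] θ, ?_⟩
    rw [contractLeft_apply, map_pow, pow_two]
    exact (hu _ _ (hc θ)).symm

theorem fibres_gorenstein_iff [Module.Finite A B] [Module.Free A B] :
    (∀ (p : Ideal A) [p.IsPrime], LocCoh.IsGorensteinRing (p.Fiber B)) ↔ Module.Invertible B (Disc.Omega A B) := by
  classical
  let e := Module.Free.chooseBasis A B
  constructor
  · intro h
    refine invertible_of_gram e fun p hp => ?_
    haveI := h p
    exact exists_gram_notMem e p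
  · intro h p _
    obtain ⟨m, hm, hle⟩ := Ideal.exists_le_maximal p (Ideal.IsPrime.ne_top')
    obtain ⟨θ, hθ⟩ := Groth.L01.Disc.exists_generator e m
    exact isGorensteinRing_fiber e p θ.toLinearMap fun hmem => hθ (hle hmem)

end Groth.L01.Disc.GorFibre
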