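import Groth.Agent.L01.Disc.Fitt0
import Groth.Agent.L01.Wiebe.Jacobian
import Mathlib.RingTheory.Kaehler.Polynomial

/-!
The Kähler different of `n` equations in `n` variables.
-/

set_option autoImplicit false
set_option linter.unusedSectionVars false
set_option backward.isDefEq.respectTransparency.types false
set_option maxSynthPendingDepth 3

universe u

namespace Groth.L01.Disc

open TensorProduct MvPolynomial Groth.L01

variable {A : Type u} [CommRing A] {n : ℕ} (F : Fin n → MvPolynomial (Fin n) A)

theorem fitt_kaehler : Fitt.ideal (Wiebe.Bq F) (Ω[Wiebe.Bq F⁄A]) 0 = Ideal.span {Wiebe.jac F} := by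
  let P := MvPolynomial (Fin n) A
  let B := Wiebe.Bq F
  let e := (KaehlerDifferential.mvPolynomialBasis A (Fin n)).baseChange B
  let φ := KaehlerDifferential.mapBaseChange A P B
  let x : Fin n → Ω[B⁄A] := fun j => φ (e j)
  have hsurj : Function.Surjective (algebraMap P B) := Ideal.Quotient.mk_surjective
  have hx : Submodule.span B (Set.range x) = ⊤ := by
    rw [show Set.range x = φ '' Set.range e from Set.range_comp φ e, ← Submodule.map_span, e.span_eq,
      Submodule.map_top, LinearMap.range_eq_top]
    exact KaehlerDifferential.mapBaseChange_surjective A P B hsurj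
  have hrepr : ∀ (p : P) (j : Fin n),
      e.repr ((1 : B) ⊗ₜ[P] KaehlerDifferential.D A P p) j = Ideal.Quotient.mk _ (pderiv j p) := fun p j => by
    rw [Module.Basis.baseChange_repr_tmul, KaehlerDifferential.mvPolynomialBasis_repr_apply, Algebra.smul_def,
      mul_one]
    rfl
  have hrow : ∀ i, ∑ j, Ideal.Quotient.mk (Ideal.span (Set.range F)) (pderiv j (F i)) • x j = 0 := fun i => by
    have h1 : φ ((1 : B) ⊗ₜ[P] KaehlerDifferential.D A P (F i)) = 0 := by
      rw [KaehlerDifferential.mapBaseChange_tmul, KaehlerDifferential.map_D, one_smul,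
        show algebraMap P B (F i) = 0 from Ideal.Quotient.eq_zero_iff_mem.mpr (Ideal.subset_span ⟨i, rfl⟩), map_zero]
    rw [← e.sum_repr ((1 : B) ⊗ₜ[P] KaehlerDifferential.D A P (F i)), map_sum] at h1
    simpa only [map_smul, hrepr] using h1
  rw [Fitt0.ideal_zero_eq x hx, Wiebe.jac, RingHom.map_det,
    Fitt0.rel0_eq_span_det x (Matrix.of fun i j => Ideal.Quotient.mk (Ideal.span (Set.range F)) (pderiv j (F i)))
      hrow fun c hc => ?_]
  · rfl
  · let z : B ⊗[P] Ω[P⁄A] := ∑ j, c j • e j
    have hz : φ z = 0 := by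
      rw [map_sum, ← hc]
      exact Finset.sum_congr rfl fun j _ => map_smul _ _ _
    obtain ⟨y, hy⟩ := (KaehlerDifferential.exact_kerCotangentToTensor_mapBaseChange A P B hsurj z).mp hz
    obtain ⟨⟨p, hp⟩, rfl⟩ := Ideal.toCotangent_surjective _ y
    rw [KaehlerDifferential.kerCotangentToTensor_toCotangent] at hy
    have hp' : p ∈ Ideal.span (Set.range F) := Ideal.Quotient.eq_zero_iff_mem.mp (RingHom.mem_ker.mp hp)
    obtain ⟨w, rfl⟩ := Ideal.mem_span_range_iff_exists_fun.mp hp'
    refine ⟨fun i => Ideal.Quotient.mk _ (w i), fun j => ?_⟩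
    have hj := congrArg (fun v => e.repr v j) hy
    simp only [hrepr] at hj
    have hcj : e.repr z j = c j := e.repr_sum_self c ▸ rfl
    rw [hcj] at hj
    rw [← hj, map_sum, map_sum]
    refine Finset.sum_congr rfl fun i _ => ?_
    have hFi : F i ∈ Ideal.span (Set.range F) := Ideal.subset_span ⟨i, rfl⟩
    rw [Derivation.leibniz, smul_eq_mul, smul_eq_mul, map_add, map_mul, map_mul,
      Ideal.Quotient.eq_zero_iff_mem.mpr hFi, zero_mul, add_zero]
    rfl

end Groth.L01.Disc
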