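import Groth.Agent.L01.Disc.Basic
import Mathlib.RingTheory.Norm.Defs
import Mathlib.RingTheory.Discriminant

/-!
The different and the Noether different of a finite free algebra.
-/

set_option autoImplicit false
set_option linter.style.haveILetI false
set_option linter.unusedSectionVars false
set_option backward.isDefEq.respectTransparency.types false
set_option maxSynthPendingDepth 3

universe u v

namespace Groth.L01.Disc

open TensorProduct Groth.L01

variable {A : Type u} {B : Type v} [CommRing A] [CommRing B] [Algebra A B]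

theorem smul_eq_algebraMap (a : A) (l : B →ₗ[A] A) :
    (⟨a • l⟩ : Disc.Omega A B) = algebraMap A B a • (⟨l⟩ : Disc.Omega A B) := by
  apply Disc.Omega.toLinearMap_injective
  ext x
  rw [Disc.Omega.smul_toLinearMap_apply, ← Algebra.smul_def, map_smul]
  rfl

section Con

variable {B : Type v} [CommRing B] [Algebra A B]

theorem con_eq (l : B →ₗ[A] A) (z : B ⊗[A] B) :
    TensorProduct.lift ((LinearMap.lsmul A B).comp l) z = TensorProduct.lid A B (LinearMap.rTensor B l z) := by
  induction z using TensorProduct.induction_on with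
  | zero => simp
  | add x y hx hy => simp [hx, hy]
  | tmul a c => simp

end Con

variable {ι : Type*} [Fintype ι] [DecidableEq ι] (e : Module.Basis ι A B)

theorem omega_sum (l : Disc.Omega A B) :
    l = ∑ i, algebraMap A B (l.toLinearMap (e i)) • (⟨e.coord i⟩ : Disc.Omega A B) := by
  simp only [← smul_eq_algebraMap]
  apply Disc.Omega.toLinearMap_injective
  let F : Disc.Omega A B →+ (B →ₗ[A] A) :=
    { toFun := fun l => l.toLinearMap, map_zero' := rfl, map_add' := fun _ _ => rfl }
  show F l = F _
  rw [map_sum]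
  exact (e.sum_dual_apply_smul_coord l.toLinearMap).symm

/-- the element of the tensor square attached to a linear map on `ω` -/
noncomputable def xi (Φ : Disc.Omega A B →ₗ[B] B) : B ⊗[A] B := ∑ i, e i ⊗ₜ[A] Φ ⟨e.coord i⟩

theorem con_xi (Φ : Disc.Omega A B →ₗ[B] B) (l : Disc.Omega A B) :
    TensorProduct.lift ((LinearMap.lsmul A B).comp l.toLinearMap) (xi e Φ) = Φ l := by
  conv_rhs => rw [omega_sum e l, map_sum]
  simp only [xi, map_sum, TensorProduct.lift.tmul, LinearMap.comp_apply, LinearMap.lsmul_apply, map_smul,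
    Algebra.smul_def]
  rfl

theorem eq_of_con {z z' : B ⊗[A] B}
    (h : ∀ i, Wiebe.con (e.coord i) z = Wiebe.con (e.coord i) z') : z = z' := by
  rw [← Wiebe.sum_tmul_con e z, ← Wiebe.sum_tmul_con e z']
  simp only [h]

theorem xi_mem (Φ : Disc.Omega A B →ₗ[B] B) : xi e Φ ∈ Submodule.annihilator (diag A B) := by
  rw [mem_ann_iff]
  intro b
  refine eq_of_con e fun i => ?_
  rw [Wiebe.con_one_tmul, ← Wiebe.con_smul b (⟨e.coord i⟩ : Disc.Omega A B)]
  show b * TensorProduct.lift ((LinearMap.lsmul A B).comp (⟨e.coord i⟩ : Disc.Omega A B).toLinearMap) (xi e Φ) =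
    TensorProduct.lift ((LinearMap.lsmul A B).comp _) (xi e Φ)
  rw [con_xi, con_xi, map_smul, smul_eq_mul]

include e in
theorem existsUnique_xi (Φ : Disc.Omega A B →ₗ[B] B) : ∃! ξ : B ⊗[A] B,
    ξ ∈ Submodule.annihilator (diag A B) ∧
      ∀ l : Disc.Omega A B, Φ l = TensorProduct.lift ((LinearMap.lsmul A B).comp l.toLinearMap) ξ := by
  refine ⟨xi e Φ, ⟨xi_mem e Φ, fun l => (con_xi e Φ l).symm⟩, fun z hz => ?_⟩
  refine eq_of_con e fun i => ?_
  show TensorProduct.lift ((LinearMap.lsmul A B).comp (⟨e.coord i⟩ : Disc.Omega A B).toLinearMap) z =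
    TensorProduct.lift ((LinearMap.lsmul A B).comp (⟨e.coord i⟩ : Disc.Omega A B).toLinearMap) (xi e Φ)
  rw [← hz.2, con_xi]

/-- the linear map on `ω` of an element killing the diagonal -/
noncomputable def phi {z : B ⊗[A] B} (hz : z ∈ Submodule.annihilator (diag A B)) : Disc.Omega A B →ₗ[B] B where
  toFun l := Wiebe.con l.toLinearMap z
  map_add' l l' := Wiebe.con_add _ _ _
  map_smul' b l := by
    rw [Wiebe.con_smul, RingHom.id_apply, smul_eq_mul, ← Wiebe.con_one_tmul, (mem_ann_iff z).mp hz b]

variable [Module.Free A B] [Module.Finite A B]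

include e in
theorem phi_trace {z : B ⊗[A] B} (hz : z ∈ Submodule.annihilator (diag A B)) :
    phi hz (Disc.Omega.trace A B) = Algebra.TensorProduct.lmul' (S := B) A z := by
  rw [Wiebe.trace_eq e, map_sum, Wiebe.lmul_eq e]
  exact Finset.sum_congr rfl fun i _ => by rw [map_smul]; rfl

theorem noetherDifferent_eq_range :
    (Disc.noetherDifferent A B : Set B) =
      Set.range (fun φ : Disc.Omega A B →ₗ[B] B => φ (Disc.Omega.trace A B)) := by
  classical
  let e := Module.Free.chooseBasis A B
  rw [noetherDifferent_eq]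
  ext b
  constructor
  · rintro ⟨z, hz, rfl⟩
    exact ⟨phi hz, phi_trace e hz⟩
  · rintro ⟨Φ, rfl⟩
    refine ⟨xi e Φ, xi_mem e Φ, ?_⟩
    show _ = Φ _
    rw [← phi_trace e (xi_mem e Φ)]
    exact con_xi e Φ _

theorem mem_differentSet_iff (b : B) : b ∈ Disc.differentSet A B ↔
    ∀ l : Disc.Omega A B, ∃ c : B, b • l = c • Disc.Omega.trace A B := by
  constructor
  · intro h l
    obtain ⟨c, hc⟩ := h l.toLinearMap
    exact ⟨c, Disc.Omega.toLinearMap_injective (LinearMap.ext hc)⟩
  · intro h φ
    obtain ⟨c, hc⟩ := h ⟨φ⟩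
    exact ⟨c, fun x => congrArg (fun l : Disc.Omega A B => l.toLinearMap x) hc⟩

theorem trace_smul_eq {z : B ⊗[A] B} (hz : z ∈ Submodule.annihilator (diag A B)) (l : Disc.Omega A B) :
    phi hz (Disc.Omega.trace A B) • l = phi hz l • Disc.Omega.trace A B := by
  classical
  let e := Module.Free.chooseBasis A B
  apply Disc.Omega.toLinearMap_injective
  ext x
  rw [Disc.Omega.smul_toLinearMap_apply, Disc.Omega.smul_toLinearMap_apply, phi_trace e]
  set z' := ((1 : B) ⊗ₜ[A] x) * z
  have hz' : z' ∈ Submodule.annihilator (diag A B) := Ideal.mul_mem_left _ _ hz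
  have hsw := phi_trace e (comm_mem_ann hz')
  have hμ : Algebra.TensorProduct.lmul' (S := B) A (Algebra.TensorProduct.comm A B B z') =
      Algebra.TensorProduct.lmul' (S := B) A z' := by
    induction z' using TensorProduct.induction_on with
    | zero => simp
    | add a b ha hb => simp [ha, hb]
    | tmul a c => simp [mul_comm]
  rw [hμ] at hsw
  have hμ' : Algebra.TensorProduct.lmul' (S := B) A z' = x * Algebra.TensorProduct.lmul' (S := B) A z := by
    simp [z']
  show l.toLinearMap (_ * x) = Algebra.trace A B (Wiebe.con l.toLinearMap z * x)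
  rw [mul_comm _ x, ← hμ', ← hsw, mul_comm _ x, ← Wiebe.con_one_tmul]
  show l.toLinearMap (Wiebe.con (Algebra.trace A B) (Algebra.TensorProduct.comm A B B z')) =
    Algebra.trace A B (Wiebe.con l.toLinearMap z')
  clear hz' hsw hμ hμ'
  induction z' using TensorProduct.induction_on with
  | zero => simp
  | add a b ha hb => simp only [map_add, ha, hb]
  | tmul a c =>
    rw [Algebra.TensorProduct.comm_tmul, Wiebe.con_tmul, Wiebe.con_tmul, map_smul, map_smul, smul_eq_mul,
      smul_eq_mul, mul_comm]

theorem noetherDifferent_subset : (Disc.noetherDifferent A B : Set B) ⊆ Disc.differentSet A B := by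
  classical
  let e := Module.Free.chooseBasis A B
  rw [noetherDifferent_eq]
  rintro _ ⟨z, hz, rfl⟩
  rw [mem_differentSet_iff]
  exact fun l => ⟨phi hz l, by rw [← phi_trace e hz]; exact trace_smul_eq hz l⟩

theorem sq_mem (b : B) (hb : b ∈ Disc.differentSet A B) : b * b ∈ Disc.noetherDifferent A B := by
  classical
  rw [mem_differentSet_iff] at hb
  choose c hc using hb
  let e := Module.Free.chooseBasis A B
  have hfaith : ∀ d : B, (∀ l : Disc.Omega A B, d • l = 0) → d = 0 := fun d hd => e.ext_elem fun i => by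
    have := congrArg (fun l : Disc.Omega A B => l.toLinearMap 1) (hd ⟨e.coord i⟩)
    simp only [Disc.Omega.smul_toLinearMap_apply, mul_one, Module.Basis.coord_apply] at this
    rw [this, map_zero]
    rfl
  have hτ : ∀ d : B, d • Disc.Omega.trace A B = 0 → d * b = 0 := fun d hd => hfaith _ fun l => by
    rw [mul_smul, hc l, smul_comm, hd, smul_zero]
  have hu : ∀ d d' : B, d • Disc.Omega.trace A B = d' • Disc.Omega.trace A B → b * d = b * d' := fun d d' h => by
    have := hτ (d - d') (by rw [sub_smul, h, sub_self])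
    rwa [sub_mul, sub_eq_zero, mul_comm d, mul_comm d'] at this
  let Φ : Disc.Omega A B →ₗ[B] B :=
    { toFun := fun l => b * c l
      map_add' := fun l l' => by
        rw [← mul_add]
        exact hu _ _ (by rw [← hc, smul_add, hc, hc, add_smul])
      map_smul' := fun d l => by
        rw [RingHom.id_apply, smul_eq_mul, mul_left_comm]
        exact hu _ _ (by rw [← hc, smul_comm, hc, mul_smul]) }
  have hmem : b * c (Disc.Omega.trace A B) ∈ (Disc.noetherDifferent A B : Set B) := by
    rw [noetherDifferent_eq_range]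
    exact ⟨Φ, rfl⟩
  rwa [SetLike.mem_coe, ← hu b (c _) (hc _)] at hmem

theorem differentSet_subset_iff (q : Ideal B) [q.IsPrime] :
    Disc.differentSet A B ⊆ q ↔ ¬ Algebra.IsUnramifiedAt A q := by
  rw [← noetherDifferent_le_iff q]
  constructor
  · exact fun h => fun b hb => h (noetherDifferent_subset hb)
  · intro h b hb
    exact ((inferInstance : q.IsPrime).mem_or_mem (h (sq_mem b hb))).elim id id

theorem norm_mem {b : B} (hb : b ∈ Disc.differentSet A B) : Algebra.norm A b ∈ Ideal.span {Algebra.discr A e} := by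
  rw [mem_differentSet_iff] at hb
  choose c hc using fun i => hb ⟨e.coord i⟩
  have h : Algebra.leftMulMatrix e b = (Matrix.of fun i k => e.repr (c i) k) * Algebra.traceMatrix A e := by
    ext i j
    rw [Algebra.leftMulMatrix_eq_repr_mul, Matrix.mul_apply]
    have := congrArg (fun l : Disc.Omega A B => l.toLinearMap (e j)) (hc i)
    simp only [Disc.Omega.smul_toLinearMap_apply, Module.Basis.coord_apply] at this
    rw [this]
    show Algebra.trace A B (c i * e j) = _
    conv_lhs => rw [← e.sum_repr (c i), Finset.sum_mul, map_sum]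
    refine Finset.sum_congr rfl fun k _ => ?_
    rw [smul_mul_assoc, map_smul, smul_eq_mul, Matrix.of_apply, Algebra.traceMatrix_apply, Algebra.traceForm_apply]
  rw [Algebra.norm_eq_matrix_det e, h, Matrix.det_mul, Algebra.discr_def]
  exact Ideal.mul_mem_left _ _ (Ideal.mem_span_singleton_self _)

section Invertible

variable [Module.Invertible B (Disc.Omega A B)]

theorem invertible_swap (Φ : Disc.Omega A B →ₗ[B] B) (x y : Disc.Omega A B) : Φ x • y = Φ y • x := by
  have h := congrArg (fun w => TensorProduct.lid B (Disc.Omega A B) (LinearMap.rTensor (Disc.Omega A B) Φ w))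
    (Module.Invertible.tmul_comm (R := B) (M := Disc.Omega A B) (m₁ := x) (m₂ := y))
  simpa using h

theorem differentSet_eq : Disc.differentSet A B = (Disc.noetherDifferent A B : Set B) := by
  refine Set.Subset.antisymm (fun b hb => ?_) noetherDifferent_subset
  rw [mem_differentSet_iff] at hb
  choose c hc using hb
  obtain ⟨w, hw⟩ := (Module.Invertible.linearEquiv B (Disc.Omega A B)).surjective 1
  suffices ∀ w, ∃ Ψ : Disc.Omega A B →ₗ[B] B,
      Ψ (Disc.Omega.trace A B) = b * Module.Invertible.linearEquiv B (Disc.Omega A B) w by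
    obtain ⟨Ψ, hΨ⟩ := this w
    rw [noetherDifferent_eq_range]
    exact ⟨Ψ, by show Ψ _ = b; rw [hΨ, hw, mul_one]⟩
  intro w
  induction w using TensorProduct.induction_on with
  | zero => exact ⟨0, by simp⟩
  | add a a' ha ha' =>
    obtain ⟨Ψ, hΨ⟩ := ha
    obtain ⟨Ψ', hΨ'⟩ := ha'
    exact ⟨Ψ + Ψ', by rw [LinearMap.add_apply, hΨ, hΨ', map_add, mul_add]⟩
  | tmul φ l =>
    refine ⟨c l • φ, ?_⟩
    rw [LinearMap.smul_apply, ← map_smul, ← hc, map_smul]
    simp [Module.Invertible.linearEquiv, mul_comm]

/-- the local generator argument -/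
theorem mul_discr_mem {θ : Disc.Omega A B} :
    Matrix.det (Matrix.of fun i j => θ.toLinearMap (e i * e j)) ^ (2 * Fintype.card ι) * Algebra.discr A e ∈
      Ideal.span (Algebra.norm A '' Disc.differentSet A B) := by
  set G : Matrix ι ι A := Matrix.of fun i j => θ.toLinearMap (e i * e j)
  set g := G.det
  let cv : Disc.Omega A B → B := fun l => ∑ k, (∑ j, l.toLinearMap (e j) * G.adjugate j k) • e k
  have hcv : ∀ l : Disc.Omega A B, algebraMap A B g • l = cv l • θ := by
    intro l
    apply Disc.Omega.toLinearMap_injective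
    refine e.ext fun m => ?_
    rw [Disc.Omega.smul_toLinearMap_apply, Disc.Omega.smul_toLinearMap_apply, ← Algebra.smul_def, map_smul,
      smul_eq_mul, Finset.sum_mul, map_sum]
    simp only [smul_mul_assoc, map_smul, smul_eq_mul, Finset.sum_mul]
    rw [Finset.sum_comm]
    have hk : ∀ j, ∑ k, l.toLinearMap (e j) * G.adjugate j k * θ.toLinearMap (e k * e m) =
        if j = m then g * l.toLinearMap (e j) else 0 := fun j => by
      simp only [mul_assoc]
      rw [← Finset.mul_sum, show ∑ k, G.adjugate j k * θ.toLinearMap (e k * e m) = (G.adjugate * G) j m from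
        by rw [Matrix.mul_apply]; rfl, Matrix.adjugate_mul, Matrix.smul_apply, Matrix.one_apply]
      split_ifs <;> simp [g, mul_comm]
    rw [Finset.sum_congr rfl fun j _ => hk j, Finset.sum_ite_eq']
    simp
  set δ := cv (Disc.Omega.trace A B)
  have hmem : algebraMap A B g * δ ∈ Disc.differentSet A B := by
    rw [mem_differentSet_iff]
    intro l
    refine ⟨algebraMap A B g * cv l, ?_⟩
    rw [mul_comm (algebraMap A B g) δ, mul_smul, hcv l, smul_comm, ← hcv, ← mul_smul, mul_comm]
  have hmat : g • Algebra.traceMatrix A e = (Algebra.leftMulMatrix e δ).transpose * G := by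
    ext i j
    have := congrArg (fun l : Disc.Omega A B => l.toLinearMap (e i * e j)) (hcv (Disc.Omega.trace A B))
    simp only [Disc.Omega.smul_toLinearMap_apply, ← Algebra.smul_def, map_smul, smul_eq_mul] at this
    rw [Matrix.smul_apply, Algebra.traceMatrix_apply, Algebra.traceForm_apply, smul_eq_mul, Matrix.mul_apply]
    refine this.trans ?_
    rw [← mul_assoc]
    conv_lhs => rw [← e.sum_repr (δ * e i), Finset.sum_mul, map_sum]
    refine Finset.sum_congr rfl fun k _ => ?_
    rw [smul_mul_assoc, map_smul, smul_eq_mul, Matrix.transpose_apply, Algebra.leftMulMatrix_eq_repr_mul]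
    rfl
  have hdet := congrArg Matrix.det hmat
  rw [Matrix.det_smul, Matrix.det_mul, Matrix.det_transpose, ← Algebra.norm_eq_matrix_det,
    ← Algebra.discr_def] at hdet
  have hnorm : Algebra.norm A (algebraMap A B g * δ) = g ^ Fintype.card ι * Algebra.norm A δ := by
    rw [map_mul, Algebra.norm_algebraMap_of_basis e]
  rw [show g ^ (2 * Fintype.card ι) * Algebra.discr A e = Algebra.norm A (algebraMap A B g * δ) * g by
    rw [hnorm, two_mul, pow_add, mul_assoc, hdet, mul_assoc]]
  exact Ideal.mul_mem_right _ _ (Ideal.subset_span ⟨_, hmem, rfl⟩)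

theorem exists_generator (p : Ideal A) [p.IsMaximal] :
    ∃ θ : Disc.Omega A B, Matrix.det (Matrix.of fun i j => θ.toLinearMap (e i * e j)) ∉ p := by
  let J := p.map (algebraMap A B)
  letI : Field (A ⧸ p) := Ideal.Quotient.field p
  haveI : Module.Finite (A ⧸ p) (B ⧸ J) := Module.Finite.of_restrictScalars_finite A (A ⧸ p) (B ⧸ J)
  haveI : IsArtinianRing (B ⧸ J) := IsArtinianRing.of_finite (A ⧸ p) (B ⧸ J)
  let M := (B ⧸ J) ⊗[B] Disc.Omega A B
  haveI : Module.Free (B ⧸ J) M := inferInstance
  obtain ⟨L⟩ := (Module.Invertible.free_iff_linearEquiv (R := B ⧸ J) (M := M)).mp inferInstance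
  obtain ⟨θ, hθ⟩ := TensorProduct.mk_surjective B (Disc.Omega A B) (B ⧸ J) Ideal.Quotient.mk_surjective (L.symm 1)
  refine ⟨θ, fun hg => ?_⟩
  have hgen : ∀ l : Disc.Omega A B, ∃ c : B, l - c • θ ∈ J • (⊤ : Submodule B (Disc.Omega A B)) := by
    intro l
    obtain ⟨c, hc⟩ := Ideal.Quotient.mk_surjective (L ((1 : B ⧸ J) ⊗ₜ[B] l))
    refine ⟨c, ?_⟩
    rw [← Submodule.Quotient.mk_eq_zero, ← (TensorProduct.quotTensorEquivQuotSMul (Disc.Omega A B) J).symm.map_eq_zero_iff,
      TensorProduct.quotTensorEquivQuotSMul_symm_mk, TensorProduct.tmul_sub, TensorProduct.tmul_smul, sub_eq_zero]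
    refine L.injective ?_
    rw [← algebraMap_smul (B ⧸ J) c, map_smul, show L ((1 : B ⧸ J) ⊗ₜ[B] θ) = 1 by
      rw [show (1 : B ⧸ J) ⊗ₜ[B] θ = L.symm 1 from hθ, LinearEquiv.apply_symm_apply], smul_eq_mul, mul_one]
    exact hc.symm
  have hval : ∀ r ∈ J, ∀ l : Disc.Omega A B, ∀ x, (r • l).toLinearMap x ∈ p := by
    intro r hr
    induction hr using Submodule.span_induction with
    | mem r hr =>
      obtain ⟨a, ha, rfl⟩ := hr
      intro l x
      rw [Disc.Omega.smul_toLinearMap_apply, ← Algebra.smul_def, map_smul]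
      exact p.mul_mem_right _ ha
    | zero => intro l x; simp
    | add a b _ _ ha hb =>
      intro l x
      rw [add_smul, Disc.Omega.add_toLinearMap, LinearMap.add_apply]
      exact p.add_mem (ha l x) (hb l x)
    | smul a b _ hb => intro l x; rw [smul_assoc, smul_comm]; exact hb (a • l) x
  have hval' : ∀ w ∈ J • (⊤ : Submodule B (Disc.Omega A B)), ∀ x, w.toLinearMap x ∈ p := fun w hw =>
    Submodule.smul_induction_on hw (fun r hr l _ => hval r hr l) fun a b ha hb x => by
      rw [Disc.Omega.add_toLinearMap, LinearMap.add_apply]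
      exact p.add_mem (ha x) (hb x)
  choose c hc using fun i => hgen ⟨e.coord i⟩
  let G : Matrix ι ι A := Matrix.of fun i j => θ.toLinearMap (e i * e j)
  let C : Matrix ι ι A := Matrix.of fun i k => e.repr (c i) k
  have hCG : (C * G).map (Ideal.Quotient.mk p) = 1 := by
    ext i j
    have h1 := hval' _ (hc i) (e j)
    have h2 : ((⟨e.coord i⟩ : Disc.Omega A B) - c i • θ).toLinearMap (e j) =
        e.coord i (e j) - θ.toLinearMap (c i * e j) := rfl
    have h3 : θ.toLinearMap (c i * e j) = (C * G) i j := by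
      rw [Matrix.mul_apply]
      conv_lhs => rw [← e.sum_repr (c i), Finset.sum_mul, map_sum]
      refine Finset.sum_congr rfl fun k _ => ?_
      rw [smul_mul_assoc, map_smul, smul_eq_mul]
      rfl
    rw [h2, h3, ← Ideal.Quotient.eq] at h1
    rw [Matrix.map_apply, ← h1, Module.Basis.coord_apply, e.repr_self, Finsupp.single_apply, Matrix.one_apply]
    by_cases h : j = i
    · rw [if_pos h, if_pos h.symm, map_one]
    · rw [if_neg h, if_neg (Ne.symm h), map_zero]
  have hdet := congrArg Matrix.det hCG
  rw [← RingHom.mapMatrix_apply, ← RingHom.map_det, Matrix.det_mul, map_mul, Matrix.det_one,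
    Ideal.Quotient.eq_zero_iff_mem.mpr hg, mul_zero] at hdet
  exact zero_ne_one hdet

theorem span_norm_eq :
    Ideal.span (Algebra.norm A '' Disc.differentSet A B) = Ideal.span {Algebra.discr A e} := by
  refine le_antisymm (Ideal.span_le.mpr ?_) ?_
  · rintro _ ⟨b, hb, rfl⟩
    exact norm_mem e hb
  rw [Ideal.span_singleton_le_iff_mem]
  by_contra hne
  let I := Ideal.span (Algebra.norm A '' Disc.differentSet A B)
  let N : Ideal A := Submodule.comap (LinearMap.mulRight A (Algebra.discr A e)) I
  obtain ⟨p, hp, hle⟩ := Ideal.exists_le_maximal N fun h => hne (by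
    have : (1 : A) ∈ N := h ▸ Submodule.mem_top
    simpa [N] using this)
  obtain ⟨θ, hθ⟩ := exists_generator e p
  exact hθ (hp.isPrime.mem_of_pow_mem _ (hle (mul_discr_mem e (θ := θ))))

end Invertible

end Groth.L01.Disc
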