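import Groth.Prelude.Def_Disc
import Mathlib.RingTheory.Ideal.AssociatedPrime.Basic
import Mathlib.RingTheory.Ideal.GoingUp
import Mathlib.RingTheory.Noetherian.Basic
import Mathlib.RingTheory.Ideal.Quotient.Noetherian
import Mathlib.Algebra.Module.FinitePresentation
import Mathlib.RingTheory.Localization.FractionRing
import Mathlib.LinearAlgebra.Dual.Lemmas
import Mathlib.RingTheory.IntegralClosure.IsIntegralClosure.Basic

/-!
Associated primes of the dualizing module of a finite algebra.
-/

set_option autoImplicit false
set_option linter.style.haveILetI false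
set_option linter.unusedSectionVars false

universe u v

namespace Groth.L01.Disc.OmegaAssoc

/-- A nonzero functional on a finite domain extension. -/
theorem exists_functional (R : Type u) (L : Type v) [CommRing R] [IsDomain R] [IsNoetherianRing R] [CommRing L]
    [IsDomain L] [Algebra R L] [Module.Finite R L] (hinj : Function.Injective (algebraMap R L)) :
    ∃ ψ : L →ₗ[R] R, ψ ≠ 0 ∧ ∀ β : L, (∀ y, ψ (β * y) = 0) → β = 0 := by
  let K := FractionRing R
  haveI : FaithfulSMul R L := (faithfulSMul_iff_algebraMap_injective R L).mpr hinj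
  letI : Algebra K (FractionRing L) := FractionRing.liftAlgebra R (FractionRing L)
  obtain ⟨D, hD⟩ := Module.Projective.exists_dual_ne_zero K (one_ne_zero (α := FractionRing L))
  let g : L →ₗ[R] K := (D.restrictScalars R).comp (IsScalarTower.toAlgHom R L (FractionRing L)).toLinearMap
  haveI : Module.FinitePresentation R L := Module.finitePresentation_of_finite R L
  obtain ⟨ψ, s, hψ⟩ := Module.FinitePresentation.exists_lift_of_isLocalizedModule (nonZeroDivisors R)
    (Algebra.linearMap R K) g
  have hne : ψ ≠ 0 := by
    intro h0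
    have h1 := LinearMap.congr_fun hψ 1
    simp only [h0, LinearMap.comp_zero, LinearMap.zero_apply, LinearMap.smul_apply] at h1
    have hs : (algebraMap R K (s : R)) ≠ 0 := by
      rw [Ne, IsFractionRing.to_map_eq_zero_iff]
      exact nonZeroDivisors.ne_zero s.2
    have h2 : algebraMap R K (s : R) * g 1 = 0 := by
      rw [← Algebra.smul_def, ← Submonoid.smul_def]
      exact h1.symm
    exact hD (by simpa [g] using (mul_eq_zero.mp h2).resolve_left hs)
  refine ⟨ψ, hne, fun β hβ => by_contra fun hb => hne (LinearMap.ext fun y => ?_)⟩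
  obtain ⟨c, hc, hc0⟩ := Submodule.exists_mem_ne_zero_of_ne_bot
    (Ideal.comap_ne_bot_of_integral_mem (R := R) hb (Ideal.mem_span_singleton_self β) (Algebra.IsIntegral.isIntegral β))
  obtain ⟨w, hw⟩ := Ideal.mem_span_singleton'.mp (Ideal.mem_comap.mp hc)
  have : c • ψ y = 0 := by
    rw [← map_smul, Algebra.smul_def, ← hw, mul_comm w β, mul_assoc]
    exact hβ _
  exact (smul_eq_zero.mp this).resolve_left hc0

variable {A : Type u} {B : Type v} [CommRing A] [CommRing B] [Algebra A B]

theorem associatedPrimes_omega [IsNoetherianRing A] [IsNoetherianRing B] [Module.Finite A B] :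
    associatedPrimes B (Disc.Omega A B) =
      {q : Ideal B | q.IsPrime ∧ q.comap (algebraMap A B) ∈ associatedPrimes A A} := by
  classical
  have hann : ∀ (b : B) (φ : Disc.Omega A B), b • φ = 0 ↔ ∀ x, φ.toLinearMap (b * x) = 0 := fun b φ =>
    ⟨fun h x => congrArg (fun l : Disc.Omega A B => l.toLinearMap x) h,
      fun h => Disc.Omega.toLinearMap_injective (LinearMap.ext h)⟩
  ext q
  constructor
  · intro hq
    obtain ⟨hp, φ, hφ⟩ := isAssociatedPrime_iff.mp (show IsAssociatedPrime q (Disc.Omega A B) from hq)
    have hmem : ∀ b, b ∈ q ↔ b • φ = 0 := fun b => by rw [hφ, Submodule.mem_colon_singleton, Submodule.mem_bot]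
    haveI := hp
    refine ⟨hp, ?_⟩
    obtain ⟨t, ht⟩ := (Module.Finite.fg_top : (⊤ : Submodule A B).FG)
    let p := q.comap (algebraMap A B)
    have hp' : p.IsPrime := Ideal.IsPrime.comap _
    have hpe : ∀ a : A, a ∈ p ↔ ∀ x ∈ t, a * φ.toLinearMap x = 0 := by
      intro a
      rw [Ideal.mem_comap, hmem, hann]
      simp only [← Algebra.smul_def, map_smul]
      constructor
      · exact fun h x _ => h x
      · intro h x
        have hx : x ∈ Submodule.span A (t : Set B) := ht ▸ Submodule.mem_top
        induction hx using Submodule.span_induction with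
        | mem x hx => exact h x hx
        | zero => simp
        | add x y _ _ ha hb => rw [map_add, smul_add, ha, hb, add_zero]
        | smul r x _ hb => rw [map_smul, smul_comm, hb, smul_zero]
    have hinf : t.inf (fun x => Submodule.colon (⊥ : Ideal A) {φ.toLinearMap x}) ≤ p := by
      intro a ha
      rw [Submodule.mem_finsetInf] at ha
      exact (hpe a).mpr fun x hx => (Submodule.mem_bot A).mp (Submodule.mem_colon_singleton.mp (ha x hx))
    obtain ⟨x, hx, hle⟩ := hp'.inf_le'.mp hinf
    refine isAssociatedPrime_iff.mpr ⟨hp', φ.toLinearMap x, le_antisymm (fun a ha => ?_) hle⟩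
    rw [Submodule.mem_colon_singleton, Submodule.mem_bot]
    exact (hpe a).mp ha x hx
  · rintro ⟨hq, hass⟩
    obtain ⟨hp, a, ha⟩ := isAssociatedPrime_iff.mp (show IsAssociatedPrime (q.comap (algebraMap A B)) A from hass)
    haveI := hq
    let p := q.comap (algebraMap A B)
    haveI : q.LiesOver p := ⟨rfl⟩
    haveI : Module.Finite (A ⧸ p) (B ⧸ q) := Module.Finite.of_restrictScalars_finite A (A ⧸ p) (B ⧸ q)
    obtain ⟨ψ, hne, hψ⟩ := exists_functional (A ⧸ p) (B ⧸ q) Ideal.algebraMap_quotient_injective
    let ι : (A ⧸ p) →ₗ[A] A := Submodule.liftQ p (LinearMap.toSpanSingleton A A a) (fun c hc => by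
      change c ∈ p at hc
      rw [show p = _ from ha, Submodule.mem_colon_singleton, Submodule.mem_bot] at hc
      exact hc)
    have hι : Function.Injective ι := by
      rw [← LinearMap.ker_eq_bot, LinearMap.ker_eq_bot']
      intro y hy
      obtain ⟨c, rfl⟩ := Submodule.Quotient.mk_surjective p y
      refine (Submodule.Quotient.mk_eq_zero _).mpr ?_
      rw [show p = _ from ha, Submodule.mem_colon_singleton, Submodule.mem_bot]
      exact hy
    let φ : Disc.Omega A B := ⟨ι.comp ((ψ.restrictScalars A).comp (Ideal.Quotient.mkₐ A q).toLinearMap)⟩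
    refine isAssociatedPrime_iff.mpr ⟨hq, φ, ?_⟩
    ext b
    rw [Submodule.mem_colon_singleton, Submodule.mem_bot, hann, ← Ideal.Quotient.eq_zero_iff_mem]
    constructor
    · intro hb x
      show ι (ψ (Ideal.Quotient.mk q (b * x))) = 0
      rw [map_mul, hb, zero_mul, map_zero, map_zero]
    · intro h
      refine hψ _ fun y => ?_
      obtain ⟨x, rfl⟩ := Ideal.Quotient.mk_surjective y
      have h1 : ι (ψ (Ideal.Quotient.mk q (b * x))) = ι 0 := (h x).trans (map_zero ι).symm
      rw [← map_mul]
      exact hι h1

end Groth.L01.Disc.OmegaAssoc
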