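import Mathlib.AlgebraicGeometry.Morphisms.OpenImmersion
import Mathlib.AlgebraicGeometry.Morphisms.IsIso
import Mathlib.RingTheory.FiniteStability
import Mathlib.RingTheory.TensorProduct.Finite
import Mathlib.RingTheory.Finiteness.Basic

/-!
Two factorizations "finite, then open immersion" are dominated by a third one.
-/

set_option autoImplicit false
set_option linter.style.haveILetI false
set_option linter.unusedSectionVars false

universe u

namespace Groth.L01.Disc.OpenComposite

open AlgebraicGeometry CategoryTheory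

theorem exists_away_bijective {R B : Type u} [CommRing R] [CommRing B] (φ : R →+* B)
    (h : IsOpenImmersion (Spec.map (CommRingCat.ofHom φ))) (q : PrimeSpectrum B) :
    ∃ f : R, φ f ∉ q.asIdeal ∧ Function.Bijective (Localization.awayMap φ f) := by
  haveI := h
  let i := Spec.map (CommRingCat.ofHom φ)
  obtain ⟨_, ⟨f, rfl⟩, hqf, hfU⟩ := PrimeSpectrum.isTopologicalBasis_basic_opens.exists_subset_of_mem_open
    (show PrimeSpectrum.comap φ q ∈ Set.range (PrimeSpectrum.comap φ) from ⟨q, rfl⟩) i.isOpenEmbedding.isOpen_range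
  refine ⟨f, hqf, ?_⟩
  let Rf := Localization.Away f
  let Bf := Localization.Away (φ f)
  let θ : Rf →+* Bf := Localization.awayMap φ f
  let a := Spec.map (CommRingCat.ofHom θ)
  let l := Spec.map (CommRingCat.ofHom (algebraMap R Rf))
  let l' := Spec.map (CommRingCat.ofHom (algebraMap B Bf))
  haveI : IsOpenImmersion l := IsOpenImmersion.of_isLocalization f
  haveI : IsOpenImmersion l' := IsOpenImmersion.of_isLocalization (φ f)
  have hθ : θ.comp (algebraMap R Rf) = (algebraMap B Bf).comp φ := IsLocalization.map_comp _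
  have hw : a ≫ l = l' ≫ i := by
    rw [← Spec.map_comp, ← Spec.map_comp, ← CommRingCat.ofHom_comp, ← CommRingCat.ofHom_comp, hθ]
  haveI : IsOpenImmersion (a ≫ l) := hw ▸ inferInstance
  haveI : IsOpenImmersion a := IsOpenImmersion.of_comp a l
  haveI : IsIso a := by
    refine isIso_of_isOpenImmersion_of_opensRange_eq_top a (top_le_iff.mp fun P _ => ?_)
    let P' : PrimeSpectrum Rf := P
    have hx : PrimeSpectrum.comap (algebraMap R Rf) P' ∈ (PrimeSpectrum.basicOpen f : Set (PrimeSpectrum R)) := by
      rw [← PrimeSpectrum.localization_away_comap_range Rf f]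
      exact ⟨P', rfl⟩
    obtain ⟨q', hq'⟩ := hfU hx
    have hq'f : q' ∈ (PrimeSpectrum.basicOpen (φ f) : Set (PrimeSpectrum B)) := by
      show φ f ∉ q'.asIdeal
      rw [← Ideal.mem_comap]
      show f ∉ (PrimeSpectrum.comap φ q').asIdeal
      rw [hq']
      exact hx
    rw [← PrimeSpectrum.localization_away_comap_range Bf (φ f)] at hq'f
    obtain ⟨Q, rfl⟩ := hq'f
    refine ⟨Q, PrimeSpectrum.localization_comap_injective Rf (Submonoid.powers f) ?_⟩
    show PrimeSpectrum.comap (algebraMap R Rf) (PrimeSpectrum.comap θ Q) = PrimeSpectrum.comap (algebraMap R Rf) P'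
    rw [← hq', ← PrimeSpectrum.comap_comp_apply, ← PrimeSpectrum.comap_comp_apply, hθ]
  exact isIso_SpecMap_iff.mp ‹IsIso a›

theorem isOpenImmersion_of_away {R B : Type u} [CommRing R] [CommRing B] (φ : R →+* B)
    (hinj : Function.Injective (PrimeSpectrum.comap φ))
    (H : ∀ q : PrimeSpectrum B, ∃ c : R, φ c ∉ q.asIdeal ∧ Function.Bijective (Localization.awayMap φ c)) :
    IsOpenImmersion (Spec.map (CommRingCat.ofHom φ)) := by
  refine IsOpenImmersion.of_forall_source_exists _ hinj fun q => ?_
  obtain ⟨c, hc, hbij⟩ := H q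
  let Rf := Localization.Away c
  let Bf := Localization.Away (φ c)
  let θ : Rf →+* Bf := Localization.awayMap φ c
  let l := Spec.map (CommRingCat.ofHom (algebraMap R Rf))
  let l' := Spec.map (CommRingCat.ofHom (algebraMap B Bf))
  haveI : IsOpenImmersion l := IsOpenImmersion.of_isLocalization c
  haveI : IsOpenImmersion l' := IsOpenImmersion.of_isLocalization (φ c)
  refine ⟨_, l', inferInstance, ?_, ?_⟩
  · have h : (q : PrimeSpectrum B) ∈ (PrimeSpectrum.basicOpen (φ c) : Set (PrimeSpectrum B)) := hc
    rw [← PrimeSpectrum.localization_away_comap_range Bf (φ c)] at h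
    exact h
  · have hθ : θ.comp (algebraMap R Rf) = (algebraMap B Bf).comp φ := IsLocalization.map_comp _
    have hw : Spec.map (CommRingCat.ofHom θ) ≫ l = l' ≫ Spec.map (CommRingCat.ofHom φ) := by
      rw [← Spec.map_comp, ← Spec.map_comp, ← CommRingCat.ofHom_comp, ← CommRingCat.ofHom_comp, hθ]
    haveI : IsIso (CommRingCat.ofHom θ) := (ConcreteCategory.isIso_iff_bijective _).mpr hbij
    rw [← hw]
    infer_instance

theorem exists_subalgebra (A B B' B'' : Type u) [CommRing A] [CommRing B] [CommRing B'] [CommRing B''] [Algebra A B]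
    [Algebra A B'] [Algebra A B''] [Algebra B' B] [Algebra B'' B] [IsScalarTower A B' B] [IsScalarTower A B'' B]
    [Module.Finite A B'] [Module.Finite A B'']
    (h' : IsOpenImmersion (Spec.map (CommRingCat.ofHom (algebraMap B' B)))) :
    ∃ C : Subalgebra A B, Module.Finite A C ∧ Set.range (algebraMap B' B) ⊆ (C : Set B) ∧
      Set.range (algebraMap B'' B) ⊆ (C : Set B) ∧ IsOpenImmersion (Spec.map (CommRingCat.ofHom C.val.toRingHom)) := by
  let π := Algebra.TensorProduct.productMap (IsScalarTower.toAlgHom A B' B) (IsScalarTower.toAlgHom A B'' B)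
  let C := π.range
  haveI := h'
  have h1 : Set.range (algebraMap B' B) ⊆ (C : Set B) := by
    rintro _ ⟨x, rfl⟩
    exact ⟨x ⊗ₜ[A] 1, by simp [π]⟩
  let g : B' →+* C := (algebraMap B' B).codRestrict C fun x => h1 ⟨x, rfl⟩
  refine ⟨C, Module.Finite.of_surjective π.rangeRestrict.toLinearMap π.rangeRestrict_surjective, h1, ?_, ?_⟩
  · rintro _ ⟨x, rfl⟩
    exact ⟨1 ⊗ₜ[A] x, by simp [π]⟩
  refine isOpenImmersion_of_away _ (fun q₁ q₂ hq => ?_) fun q => ?_
  · refine (Spec.map (CommRingCat.ofHom (algebraMap B' B))).isOpenEmbedding.injective ?_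
    show PrimeSpectrum.comap (C.val.toRingHom.comp g) q₁ = PrimeSpectrum.comap (C.val.toRingHom.comp g) q₂
    rw [PrimeSpectrum.comap_comp_apply, hq, ← PrimeSpectrum.comap_comp_apply]
  obtain ⟨f, hf, hbij⟩ := exists_away_bijective (algebraMap B' B) h' q
  refine ⟨g f, hf, ?_, fun y => ?_⟩
  · haveI : IsLocalization ((Submonoid.powers (g f)).map C.val.toRingHom) (Localization.Away (C.val.toRingHom (g f))) := by
      rw [Submonoid.map_powers]; exact inferInstanceAs (IsLocalization.Away _ _)
    exact IsLocalization.map_injective_of_injective (M := Submonoid.powers (g f)) (g := C.val.toRingHom)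
      (S := Localization.Away (g f)) (Q := Localization.Away (C.val.toRingHom (g f))) fun a b h => Subtype.ext h
  · obtain ⟨x, rfl⟩ := hbij.2 y
    refine ⟨Localization.awayMap g f x, ?_⟩
    refine RingHom.congr_fun (IsLocalization.ringHom_ext (Submonoid.powers f) (RingHom.ext fun r => ?_) :
      (Localization.awayMap C.val.toRingHom (g f)).comp (Localization.awayMap g f) =
        Localization.awayMap (algebraMap B' B) f) x
    simp only [RingHom.comp_apply, Localization.awayMap, IsLocalization.Away.map, IsLocalization.map_eq]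
    exact (RingHom.congr_fun (IsLocalization.map_comp (M := Submonoid.powers f) (T := Submonoid.powers (algebraMap B' B f))
      (S := Localization.Away f) (Q := Localization.Away (algebraMap B' B f)) (g := algebraMap B' B)
      (show Submonoid.powers f ≤ (Submonoid.powers (algebraMap B' B f)).comap (algebraMap B' B) by
        rw [← Submonoid.map_le_iff_le_comap, Submonoid.map_powers])) r).symm

end Groth.L01.Disc.OpenComposite
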