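import Groth.Agent.L01.Disc.ExtVanish
import Groth.Agent.L01.Disc.OpenComposite
import Groth.Prelude.Def_Disc
import Mathlib.RingTheory.Localization.Away.Basic
import Mathlib.RingTheory.Flat.Tensor

/-!
The dualizing module of a flat quasi-finite algebra is flat over the base.
-/

set_option autoImplicit false
set_option linter.style.haveILetI false
set_option linter.unusedSectionVars false
set_option backward.isDefEq.respectTransparency.types false

universe u

namespace Groth.L01.Disc.OmegaFlat

open TensorProduct AlgebraicGeometry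

theorem isLocalization_atPrime {B' B : Type u} [CommRing B'] [CommRing B] [Algebra B' B]
    (h : IsOpenImmersion (Spec.map (CommRingCat.ofHom (algebraMap B' B)))) (Q : Ideal B) [Q.IsPrime]
    (L : Type u) [CommRing L] [Algebra B L] [Algebra B' L] [IsScalarTower B' B L] [IsLocalization.AtPrime L Q] :
    IsLocalization.AtPrime L (Q.comap (algebraMap B' B)) := by
  obtain ⟨f, hf, hbij⟩ := OpenComposite.exists_away_bijective (algebraMap B' B) h ⟨Q, inferInstance⟩
  let φ := algebraMap B' B
  have hsurj : ∀ b : B, ∃ (k : ℕ) (r : B'), φ f ^ k * b = φ r := by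
    intro b
    obtain ⟨y, hy⟩ := hbij.2 (algebraMap B (Localization.Away (φ f)) b)
    obtain ⟨⟨r, ⟨_, k, rfl⟩⟩, rfl⟩ := IsLocalization.mk'_surjective (Submonoid.powers f) y
    rw [Localization.awayMap, IsLocalization.Away.map, IsLocalization.map_mk', IsLocalization.mk'_eq_iff_eq_mul,
      ← map_mul, IsLocalization.eq_iff_exists (Submonoid.powers (φ f))] at hy
    obtain ⟨⟨_, j, rfl⟩, hj⟩ := hy
    refine ⟨j + k, f ^ j * r, ?_⟩
    rw [map_mul, map_pow, pow_add, mul_assoc, mul_comm (φ f ^ k)]
    exact (hj.trans (by simp [φ, map_pow])).symm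
  have hinj : ∀ r : B', φ r = 0 → ∃ k : ℕ, f ^ k * r = 0 := by
    intro r hr
    have h0 : algebraMap B' (Localization.Away f) r = 0 := hbij.1 (by
      rw [map_zero, Localization.awayMap, IsLocalization.Away.map, IsLocalization.map_eq, hr, map_zero])
    obtain ⟨⟨_, k, rfl⟩, hk⟩ := (IsLocalization.map_eq_zero_iff (Submonoid.powers f) _ r).mp h0
    exact ⟨k, hk⟩
  have hf' : f ∈ (Q.comap φ).primeCompl := hf
  have hunit : ∀ r ∈ (Q.comap φ).primeCompl, IsUnit (algebraMap B' L r) := fun r hr => by
    rw [IsScalarTower.algebraMap_apply B' B L]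
    exact IsLocalization.map_units L (⟨φ r, hr⟩ : Q.primeCompl)
  refine ⟨⟨fun y => hunit y.1 y.2, fun z => ?_, fun {x y} hxy => ?_⟩⟩
  · obtain ⟨⟨b, u⟩, hbu⟩ := IsLocalization.surj Q.primeCompl z
    obtain ⟨k, r, hr⟩ := hsurj b
    obtain ⟨k', r', hr'⟩ := hsurj u
    have hr'Q : r' ∈ (Q.comap φ).primeCompl := fun hmem => by
      have h1 : φ r' ∈ Q := hmem
      rw [← hr'] at h1
      exact ((inferInstance : Q.IsPrime).mem_or_mem h1).elim (fun h => hf ((inferInstance : Q.IsPrime).mem_of_pow_mem _ h)) u.2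
    refine ⟨⟨r * f ^ k', ⟨r' * f ^ k, mul_mem hr'Q (pow_mem hf' k)⟩⟩, ?_⟩
    have e1 := congrArg (algebraMap B L) hr
    have e2 := congrArg (algebraMap B L) hr'
    simp only [map_mul, map_pow, φ] at e1 e2
    simp only [IsScalarTower.algebraMap_apply B' B L, map_mul, map_pow]
    rw [← e1, ← e2]
    linear_combination (algebraMap B L (algebraMap B' B f) ^ k * algebraMap B L (algebraMap B' B f) ^ k') * hbu
  · rw [← sub_eq_zero, ← map_sub, IsScalarTower.algebraMap_apply B' B L,
      IsLocalization.map_eq_zero_iff Q.primeCompl L] at hxy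
    obtain ⟨u, hu⟩ := hxy
    obtain ⟨k, r, hr⟩ := hsurj u
    have hrQ : r ∈ (Q.comap φ).primeCompl := fun hmem => by
      have h1 : φ r ∈ Q := hmem
      rw [← hr] at h1
      exact ((inferInstance : Q.IsPrime).mem_or_mem h1).elim (fun h => hf ((inferInstance : Q.IsPrime).mem_of_pow_mem _ h)) u.2
    obtain ⟨j, hj⟩ := hinj (r * (x - y)) (by rw [map_mul, ← hr, mul_assoc, hu, mul_zero])
    refine ⟨⟨f ^ j * r, mul_mem (pow_mem hf' j) hrQ⟩, ?_⟩
    rw [← sub_eq_zero, ← mul_sub]
    show f ^ j * r * (x - y) = 0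
    rw [mul_assoc]
    exact hj

variable {A B' : Type u} [CommRing A] [IsNoetherianRing A] [CommRing B'] [Algebra A B'] [Module.Finite A B']

theorem exists_killer [Module A (Disc.Omega A B')] [IsScalarTower A B' (Disc.Omega A B')] (q : Ideal B') [q.IsPrime]
    (hflat : Module.Flat A (Localization.AtPrime q)) (I : Ideal A) (w : Disc.Omega A B' ⊗[A] I)
    (hw : LinearMap.lTensor (Disc.Omega A B') I.subtype w = 0) : ∃ u ∉ q, u • w = 0 := by
  classical
  obtain ⟨m, c, hc⟩ := Module.Finite.exists_fin (R := A) (M := I)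
  have hsmul : ∀ (a : A) (l : Disc.Omega A B') (x : B'), (a • l).toLinearMap x = a * l.toLinearMap x := fun a l x => by
    rw [← algebraMap_smul B' a l, Disc.Omega.smul_toLinearMap_apply, ← Algebra.smul_def, map_smul, smul_eq_mul]
  have hrep : ∃ l : Fin m → Disc.Omega A B', w = ∑ j, l j ⊗ₜ[A] c j := by
    clear hw
    induction w using TensorProduct.induction_on with
    | zero => exact ⟨0, by simp⟩
    | add a b ha hb =>
      obtain ⟨l, rfl⟩ := ha
      obtain ⟨l', rfl⟩ := hb
      exact ⟨l + l', by simp [TensorProduct.add_tmul, Finset.sum_add_distrib]⟩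
    | tmul l a =>
      obtain ⟨r, hr⟩ := (Submodule.mem_span_range_iff_exists_fun A).mp (hc ▸ Submodule.mem_top : a ∈ Submodule.span A (Set.range c))
      exact ⟨fun j => r j • l, by simp [← hr, TensorProduct.tmul_sum, TensorProduct.tmul_smul, TensorProduct.smul_tmul']⟩
  obtain ⟨l, rfl⟩ := hrep
  let ev : Disc.Omega A B' →+ (B' →ₗ[A] A) :=
    { toFun := fun l => l.toLinearMap, map_zero' := rfl, map_add' := fun _ _ => rfl }
  have hrel : ∀ x : B', ∑ j, (l j).toLinearMap x * (c j : A) = 0 := by
    intro x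
    have h0 := congrArg (TensorProduct.rid A (Disc.Omega A B')) hw
    simp only [map_sum, map_zero, LinearMap.lTensor_tmul, TensorProduct.rid_tmul, Submodule.subtype_apply] at h0
    have h1 := LinearMap.congr_fun (congrArg ev h0) x
    rw [map_sum, map_zero, LinearMap.sum_apply, LinearMap.zero_apply] at h1
    refine (Finset.sum_congr rfl fun j _ => ?_).trans h1
    show _ = ((c j : A) • l j).toLinearMap x
    rw [hsmul, mul_comm]
  let π0 : (Fin m → A) →ₗ[A] A := Fintype.linearCombination A fun j => (c j : A)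
  let ψ : B' →ₗ[A] LinearMap.ker π0 := LinearMap.codRestrict _ (LinearMap.pi fun j => (l j).toLinearMap) fun x => by
    rw [LinearMap.mem_ker, Fintype.linearCombination_apply]
    simpa using hrel x
  obtain ⟨r, p1, hp1⟩ := Module.Finite.exists_fin' A (LinearMap.ker π0)
  obtain ⟨n, π, hπ⟩ := Module.Finite.exists_fin' A B'
  obtain ⟨Φ, hΦ⟩ := Module.projective_lifting_property p1 (ψ.comp π) hp1
  let h : LinearMap.ker π →ₗ[A] LinearMap.ker p1 := LinearMap.codRestrict _ (Φ.comp (LinearMap.ker π).subtype) fun k => by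
    rw [LinearMap.mem_ker, LinearMap.comp_apply]
    refine (LinearMap.congr_fun hΦ _).trans ?_
    show ψ (π k) = 0
    rw [show π k = 0 from k.2, map_zero]
  obtain ⟨s, S, hS, g, hs, hg⟩ := ExtVanish.vanish π q hπ hflat (LinearMap.ker p1) h
  let Φ' : (Fin n → A) →ₗ[A] (Fin r → A) := Φ.comp S - (LinearMap.ker p1).subtype.comp g
  let χ : B' →ₗ[A] (Fin r → A) := (Submodule.liftQ _ Φ' fun v hv => by
      rw [LinearMap.mem_ker]
      exact sub_eq_zero.mpr (congrArg Subtype.val (hg ⟨v, hv⟩))).comp (π.quotKerEquivOfSurjective hπ).symm.toLinearMap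
  have hχ : ∀ v, χ (π v) = Φ' v := fun v => by
    simp only [χ, LinearMap.comp_apply, LinearEquiv.coe_coe]
    rw [show (π.quotKerEquivOfSurjective hπ).symm (π v) = Submodule.Quotient.mk v from
      (π.quotKerEquivOfSurjective hπ).symm_apply_eq.mpr rfl]
    rfl
  let e := Pi.basisFun A (Fin r)
  have hdec : ∀ j, s • l j = ∑ k, ((p1 (e k) : Fin m → A) j) • (⟨(LinearMap.proj k).comp χ⟩ : Disc.Omega A B') := by
    intro j
    apply Disc.Omega.toLinearMap_injective
    ext x
    obtain ⟨v, rfl⟩ := hπ x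
    have h1 : p1 (χ (π v)) = ψ (s * π v) := by
      rw [hχ, show Φ' v = Φ (S v) - (g v : Fin r → A) from rfl, map_sub, ← hS v,
        show p1 (g v : Fin r → A) = 0 from (g v).2, sub_zero]
      exact LinearMap.congr_fun hΦ (S v)
    show (l j).toLinearMap (s * π v) = ev _ (π v)
    rw [map_sum, LinearMap.sum_apply, show (l j).toLinearMap (s * π v) = ((ψ (s * π v) : LinearMap.ker π0) : Fin m → A) j from rfl,
      ← h1, ← e.sum_repr (χ (π v)), map_sum]
    simp only [Submodule.coe_sum, Finset.sum_apply, map_smul, Submodule.coe_smul, Pi.smul_apply, smul_eq_mul]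
    refine Finset.sum_congr rfl fun k _ => ?_
    show _ = (((p1 (e k) : Fin m → A) j) • (⟨(LinearMap.proj k).comp χ⟩ : Disc.Omega A B')).toLinearMap (π v)
    rw [hsmul]
    simp [e, mul_comm]
  refine ⟨s, hs, ?_⟩
  simp only [Finset.smul_sum, TensorProduct.smul_tmul', hdec, TensorProduct.sum_tmul]
  rw [Finset.sum_comm]
  refine Finset.sum_eq_zero fun k _ => ?_
  simp only [TensorProduct.smul_tmul, ← TensorProduct.tmul_sum]
  rw [show ∑ j, (p1 (e k) : Fin m → A) j • c j = 0 from ?_, TensorProduct.tmul_zero]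
  apply Subtype.ext
  have := (p1 (e k)).2
  rw [LinearMap.mem_ker, Fintype.linearCombination_apply] at this
  simpa using this

/-- Flatness after localization, from torsion of the kernels. -/
theorem flat_tensor_local (q : Ideal B') [q.IsPrime] (Om : Type u) [AddCommGroup Om] [Module A Om] [Module B' Om]
    [IsScalarTower A B' Om] (L : Type u) [CommRing L] [Algebra B' L] [Algebra A L] [IsScalarTower A B' L]
    [IsLocalization.AtPrime L q]
    (H : ∀ (I : Ideal A) (w : Om ⊗[A] I), LinearMap.lTensor Om I.subtype w = 0 → ∃ u ∉ q, u • w = 0) :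
    Module.Flat A (L ⊗[B'] Om) := by
  let f₀ : Om →ₗ[B'] L ⊗[B'] Om := TensorProduct.mk B' L Om 1
  haveI : IsLocalizedModule q.primeCompl f₀ :=
    (isLocalizedModule_iff_isBaseChange q.primeCompl L f₀).mpr (TensorProduct.isBaseChange B' Om L)
  rw [Module.Flat.iff_lTensor_injective]
  intro I _
  let F : Om ⊗[A] I →ₗ[B'] (L ⊗[B'] Om) ⊗[A] I := TensorProduct.AlgebraTensorModule.rTensor A I f₀
  let F' : Om ⊗[A] A →ₗ[B'] (L ⊗[B'] Om) ⊗[A] A := TensorProduct.AlgebraTensorModule.rTensor A A f₀
  rw [injective_iff_map_eq_zero]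
  intro z hz
  obtain ⟨⟨w, s⟩, hws⟩ := IsLocalizedModule.surj q.primeCompl F z
  have hcomm : ∀ w, LinearMap.lTensor (L ⊗[B'] Om) I.subtype (F w) = F' (LinearMap.lTensor Om I.subtype w) := by
    intro w
    induction w using TensorProduct.induction_on with
    | zero => simp
    | add a b ha hb => simp [ha, hb]
    | tmul a b => rfl
  have h0 : F' (LinearMap.lTensor Om I.subtype w) = 0 := by
    rw [← hcomm, ← hws]
    show TensorProduct.AlgebraTensorModule.lTensor B' (L ⊗[B'] Om) I.subtype ((s : B') • z) = 0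
    rw [map_smul, show TensorProduct.AlgebraTensorModule.lTensor B' (L ⊗[B'] Om) I.subtype z = 0 from hz, smul_zero]
  obtain ⟨t, ht⟩ := (IsLocalizedModule.eq_zero_iff q.primeCompl F').mp h0
  obtain ⟨u, hu, hu'⟩ := H I ((t : B') • w) (by
    show TensorProduct.AlgebraTensorModule.lTensor B' Om I.subtype ((t : B') • w) = 0
    rw [map_smul]
    exact ht)
  have hz0 : (⟨u, hu⟩ * t * s : q.primeCompl) • z = 0 := by
    rw [mul_smul, mul_smul, hws]
    show u • (t : B') • F w = 0
    rw [← map_smul, ← map_smul, hu', map_zero]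
  exact IsLocalizedModule.smul_injective F _ (hz0.trans (smul_zero _).symm)

theorem flat_omega (B : Type u) [CommRing B] [Algebra A B] [Module.Flat A B] [Algebra B' B] [IsScalarTower A B' B]
    (hopen : IsOpenImmersion (Spec.map (CommRingCat.ofHom (algebraMap B' B)))) :
    Module.Flat A (B ⊗[B'] Disc.Omega A B') := by
  let Om := Disc.Omega A B'
  letI : Module A Om := Module.compHom Om (algebraMap A B')
  haveI : IsScalarTower A B' Om := IsScalarTower.of_algebraMap_smul fun _ _ => rfl
  refine Module.flat_of_isLocalized_maximal (R := A) B (B ⊗[B'] Om)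
    (fun Q => Localization.AtPrime Q ⊗[B'] Om)
    (fun Q => TensorProduct.AlgebraTensorModule.rTensor B' Om (Algebra.linearMap B (Localization.AtPrime Q)))
    fun Q _ => ?_
  let L := Localization.AtPrime Q
  let q := Q.comap (algebraMap B' B)
  haveI : IsLocalization.AtPrime L q := isLocalization_atPrime hopen Q L
  haveI : Module.Flat B L := IsLocalization.flat L Q.primeCompl
  haveI : Module.Flat A L := Module.Flat.trans A B L
  have hflat : Module.Flat A (Localization.AtPrime q) := Module.Flat.of_linearEquiv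
    ((IsLocalization.algEquiv q.primeCompl (Localization.AtPrime q) L).restrictScalars A).toLinearEquiv
  exact flat_tensor_local q Om L fun I w hw => exists_killer q hflat I w hw

end Groth.L01.Disc.OmegaFlat
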