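import Groth.Agent.L01.Disc.Linear
import Groth.Agent.L01.Disc.Compat
import Groth.Agent.L01.Disc.KaehlerFitt
import Groth.Agent.L07.SyntAlg
import Mathlib.RingTheory.Etale.Kaehler

/-!
The different of a finite free syntomic algebra is the Kähler different.
-/

set_option autoImplicit false
set_option linter.style.haveILetI false
set_option linter.unusedSectionVars false
set_option backward.isDefEq.respectTransparency.types false
set_option maxSynthPendingDepth 3

universe u

namespace Groth.L01.Disc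

open TensorProduct Groth.L01 PrimeSpectrum

variable {A B : Type u} [CommRing A] [CommRing B] [Algebra A B]

/-- A finite flat syntomic algebra is locally `n` equations in `n` variables. -/
theorem exists_square_nhd [Module.Finite A B] (h : Synt.IsSyntomic A B) (q : Ideal B) [q.IsPrime] :
    ∃ g : B, g ∉ q ∧ ∃ (n : ℕ) (F : Fin n → MvPolynomial (Fin n) A),
      Algebra.QuasiFinite A (Wiebe.Bq F) ∧ Module.Flat A (Wiebe.Bq F) ∧
      Nonempty (Localization.Away g ≃ₐ[A] Wiebe.Bq F) := by
  haveI := h.1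
  haveI := h.2.1
  let P : PrimeSpectrum B := ⟨q, inferInstance⟩
  haveI : Module.Flat A (Localization.AtPrime P.asIdeal) := Module.Flat.trans A B _
  obtain ⟨g, hg, m, c, F, hF, ⟨e⟩⟩ := Groth.L07.SyntAlg.exists_relGCI_nhd' P
    ((Groth.L07.SyntAlg.isSyntomic_iff.mp h).2 P)
  let C := Synt.RelGCIRing A m c F
  haveI : Algebra.QuasiFinite A (Localization.Away g) := inferInstance
  haveI hq : Algebra.QuasiFinite A C := Algebra.QuasiFinite.of_surjective_algHom e.toAlgHom e.surjective
  haveI hflat : Module.Flat A C := by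
    haveI : Module.Flat A (Localization.Away g) := Module.Flat.trans A B _
    exact Module.Flat.of_linearEquiv e.symm.toLinearEquiv
  obtain ⟨Pg, -⟩ : P ∈ Set.range (PrimeSpectrum.comap (algebraMap B (Localization.Away g))) := by
    rw [PrimeSpectrum.localization_away_comap_range (Localization.Away g) g]; exact hg
  let P₀ := PrimeSpectrum.comap e.symm.toRingEquiv.toRingHom Pg
  let p : PrimeSpectrum A := PrimeSpectrum.comap (algebraMap A C) P₀
  haveI hnt : Nontrivial (p.asIdeal.Fiber C) :=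
    PrimeSpectrum.nonempty_iff_nontrivial.mp ⟨(PrimeSpectrum.preimageEquivFiber A C p) ⟨P₀, rfl⟩⟩
  obtain ⟨hcm, hdim⟩ := hF p hnt
  rw [ringKrullDimZero_iff_ringKrullDim_eq_zero.mp inferInstance] at hdim
  have hmc : m - c = 0 := by exact_mod_cast hdim.symm
  obtain rfl : c = m := le_antisymm hcm (Nat.sub_eq_zero_iff_le.mp hmc)
  exact ⟨g, hg, c, F, hq, hflat, ⟨e⟩⟩

section Local

variable [Algebra.FiniteType A B] {n : ℕ} (F : Fin n → MvPolynomial (Fin n) A) [Algebra B (Wiebe.Bq F)]
  [IsScalarTower A B (Wiebe.Bq F)] [Algebra.QuasiFinite A (Wiebe.Bq F)] [Module.Flat A (Wiebe.Bq F)]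

theorem noether_eq_fitt_local (S : Submonoid B) [IsLocalization S (Wiebe.Bq F)] :
    (Disc.noetherDifferent A B).map (algebraMap B (Wiebe.Bq F)) =
      (Fitt.ideal B (Ω[B⁄A]) 0).map (algebraMap B (Wiebe.Bq F)) := by
  have hF := Wiebe.isKoszulRegularSeq_of_isRelGCI (Wiebe.isRelGCI_of_quasiFinite F)
  rw [← noether_localization S, ← Fitt0.ideal_zero_map S (Wiebe.Bq F) (KaehlerDifferential.map A A B (Wiebe.Bq F)),
    fitt_kaehler]
  exact Wiebe.noetherDifferent_eq F hF

end Local

theorem noetherDifferent_eq_fitt [Module.Finite A B] (h : Synt.IsSyntomic A B) :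
    Disc.noetherDifferent A B = Fitt.ideal B (Ω[B⁄A]) 0 := by
  have key : ∀ I I' : Ideal B, (∀ q : Ideal B, q.IsMaximal → ∃ g ∉ q, ∀ x ∈ I, ∃ k : ℕ, g ^ k * x ∈ I') → I ≤ I' := by
    intro I I' H x hx
    by_contra hne
    let N : Ideal B := Submodule.comap (LinearMap.mulRight B x) I'
    obtain ⟨q, hq, hle⟩ := Ideal.exists_le_maximal N fun h => hne (by
      have : (1 : B) ∈ N := h ▸ Submodule.mem_top
      simpa [N] using this)
    obtain ⟨g, hg, H⟩ := H q hq
    obtain ⟨k, hk⟩ := H x hx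
    exact hg (hq.isPrime.mem_of_pow_mem k (hle hk))
  have loc : ∀ q : Ideal B, q.IsMaximal → ∃ g ∉ q,
      (∀ x ∈ Disc.noetherDifferent A B, ∃ k : ℕ, g ^ k * x ∈ Fitt.ideal B (Ω[B⁄A]) 0) ∧
      (∀ x ∈ Fitt.ideal B (Ω[B⁄A]) 0, ∃ k : ℕ, g ^ k * x ∈ Disc.noetherDifferent A B) := by
    intro q hq
    haveI := hq.isPrime
    obtain ⟨g, hg, n, F, hqf, hfl, ⟨e⟩⟩ := exists_square_nhd h q
    letI : Algebra B (Wiebe.Bq F) := (e.toAlgHom.comp (IsScalarTower.toAlgHom A B (Localization.Away g))).toRingHom.toAlgebra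
    haveI : IsScalarTower A B (Wiebe.Bq F) := IsScalarTower.of_algebraMap_eq fun a =>
      ((e.toAlgHom.comp (IsScalarTower.toAlgHom A B (Localization.Away g))).commutes a).symm
    let e' : Localization.Away g ≃ₐ[B] Wiebe.Bq F := { e with commutes' := fun b => rfl }
    haveI : IsLocalization (Submonoid.powers g) (Wiebe.Bq F) := IsLocalization.isLocalization_of_algEquiv _ e'
    have hloc := noether_eq_fitt_local (A := A) (B := B) F (Submonoid.powers g)
    have step : ∀ I I' : Ideal B, I.map (algebraMap B (Wiebe.Bq F)) = I'.map (algebraMap B (Wiebe.Bq F)) →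
        ∀ x ∈ I, ∃ k : ℕ, g ^ k * x ∈ I' := by
      intro I I' hII x hx
      obtain ⟨⟨y, s⟩, hys⟩ := (IsLocalization.mem_map_algebraMap_iff (Submonoid.powers g) (Wiebe.Bq F)).mp
        (hII ▸ Ideal.mem_map_of_mem (algebraMap B (Wiebe.Bq F)) hx)
      rw [← map_mul, IsLocalization.eq_iff_exists (Submonoid.powers g)] at hys
      obtain ⟨⟨_, k, rfl⟩, hk⟩ := hys
      obtain ⟨l, hl⟩ := s.2
      refine ⟨k + l, ?_⟩
      rw [pow_add, mul_assoc, mul_comm (g ^ l), show g ^ l = (s : B) from hl]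
      exact (show g ^ k * (x * (s : B)) = g ^ k * (y : B) from hk) ▸ Ideal.mul_mem_left _ _ y.2
    exact ⟨g, hg, step _ _ hloc, step _ _ hloc.symm⟩
  refine le_antisymm (key _ _ fun q hq => ?_) (key _ _ fun q hq => ?_)
  · obtain ⟨g, hg, h1, -⟩ := loc q hq
    exact ⟨g, hg, h1⟩
  · obtain ⟨g, hg, -, h2⟩ := loc q hq
    exact ⟨g, hg, h2⟩

section Eval

variable [Module.Finite A B] [Module.Free A B]

theorem exists_notMem_range (h : Synt.IsSyntomic A B) (q : Ideal B) [hq : q.IsMaximal] :
    ∃ (z : B ⊗[A] B) (_ : z ∈ Submodule.annihilator (diag A B)) (l : B →ₗ[A] A), Wiebe.con l z ∉ q := by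
  classical
  by_contra hno
  push Not at hno
  let e := Module.Free.chooseBasis A B
  obtain ⟨g, hg, n, F, hqf, hfl, ⟨E⟩⟩ := exists_square_nhd h q
  let B' := Wiebe.Bq F
  letI : Algebra B B' := (E.toAlgHom.comp (IsScalarTower.toAlgHom A B (Localization.Away g))).toRingHom.toAlgebra
  haveI : IsScalarTower A B B' := IsScalarTower.of_algebraMap_eq fun a =>
    ((E.toAlgHom.comp (IsScalarTower.toAlgHom A B (Localization.Away g))).commutes a).symm
  let e' : Localization.Away g ≃ₐ[B] B' := { E with commutes' := fun b => rfl }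
  haveI : IsLocalization (Submonoid.powers g) B' := IsLocalization.isLocalization_of_algEquiv _ e'
  let p := q.comap (algebraMap A B)
  haveI : p.IsMaximal := Ideal.isMaximal_comap_of_isIntegral_of_isMaximal q
  let J := p.map (algebraMap A B)
  have hJq : J ≤ q := Ideal.map_comap_le
  letI : Field (A ⧸ p) := Ideal.Quotient.field p
  haveI : Module.Finite (A ⧸ p) (B ⧸ J) := Module.Finite.of_restrictScalars_finite A (A ⧸ p) (B ⧸ J)
  haveI : IsArtinianRing (B ⧸ J) := IsArtinianRing.of_finite (A ⧸ p) (B ⧸ J)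
  let m' := q.map (Ideal.Quotient.mk J)
  haveI hm' : m'.IsMaximal := (Ideal.map_eq_top_or_isMaximal_of_surjective _ Ideal.Quotient.mk_surjective hq).resolve_left
    fun h => hq.ne_top (by
      have h1 := Ideal.comap_map_of_surjective' (Ideal.Quotient.mk J) Ideal.Quotient.mk_surjective q
      rw [h, Ideal.comap_top, Ideal.mk_ker, sup_eq_left.mpr hJq] at h1
      exact h1.symm)
  have hass : m' ∈ associatedPrimes (B ⧸ J) (B ⧸ J) := by
    apply Module.associatedPrimes.minimalPrimes_annihilator_subset_associatedPrimes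
    refine ⟨⟨hm'.isPrime, ?_⟩, fun Q hQ hQle => ?_⟩
    · intro z hz
      have hz0 : z = 0 := by simpa using Module.mem_annihilator.mp hz 1
      rw [hz0]
      exact Submodule.zero_mem _
    · haveI := hQ.1
      exact ((IsArtinianRing.isMaximal_of_isPrime Q).eq_of_le hm'.ne_top hQle).ge
  obtain ⟨hprime, s', hs'⟩ := isAssociatedPrime_iff.mp (show IsAssociatedPrime m' (B ⧸ J) from hass)
  obtain ⟨s, rfl⟩ := Ideal.Quotient.mk_surjective s'
  have hkill : ∀ t, t * s ∈ J ↔ t ∈ q := fun t => by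
    rw [← Ideal.Quotient.eq_zero_iff_mem, map_mul]
    have h1 : Ideal.Quotient.mk J t ∈ m' ↔ t ∈ q := by
      rw [← Ideal.mem_comap, Ideal.comap_map_of_surjective' _ Ideal.Quotient.mk_surjective, Ideal.mk_ker,
        sup_eq_left.mpr hJq]
    rw [← h1, hs', Submodule.mem_colon_singleton, Submodule.mem_bot, smul_eq_mul]
  let f : B →ₐ[A] B' := IsScalarTower.toAlgHom A B B'
  let ψ : B ⊗[A] B →ₐ[A] B' ⊗[A] B' := Algebra.TensorProduct.map f f
  haveI := IsLocalization.flat B' (Submonoid.powers g)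
  have hψ : ψ.toRingHom.Flat := RingHom.Flat.tensorProductMap (f := f) (g := f)
    (RingHom.flat_algebraMap_iff.mpr inferInstance) (RingHom.flat_algebraMap_iff.mpr inferInstance)
  let s₁ : B' := algebraMap B B' s
  -- every element killing the diagonal, times `1 ⊗ s`, dies in the fibre
  have hdead : ∀ z ∈ Submodule.annihilator (diag A B),
      ψ ((1 ⊗ₜ[A] s) * z) ∈ p.map (algebraMap A (B' ⊗[A] B')) := by
    intro z hz
    have hle : J.map (Algebra.TensorProduct.includeRight : B →ₐ[A] B ⊗[A] B) =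
        p.map (algebraMap A (B ⊗[A] B)) := by
      show Ideal.map (Algebra.TensorProduct.includeRight : B →ₐ[A] B ⊗[A] B).toRingHom (Ideal.map (algebraMap A B) p) = _
      rw [Ideal.map_map]
      congr 1
      exact (Algebra.TensorProduct.includeRight : B →ₐ[A] B ⊗[A] B).comp_algebraMap
    have hmem : (1 ⊗ₜ[A] s) * z ∈ p.map (algebraMap A (B ⊗[A] B)) := by
      rw [← Wiebe.sum_tmul_con e z, Finset.mul_sum, ← hle]
      refine Submodule.sum_mem _ fun i _ => ?_
      rw [Algebra.TensorProduct.tmul_mul_tmul, one_mul, show e i ⊗ₜ[A] (s * Wiebe.con (e.coord i) z) =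
        (e i ⊗ₜ[A] (1 : B)) * ((1 : B) ⊗ₜ[A] (Wiebe.con (e.coord i) z * s)) by
          rw [Algebra.TensorProduct.tmul_mul_tmul, mul_one, one_mul, mul_comm s]]
      exact Ideal.mul_mem_left _ _ (Ideal.mem_map_of_mem _ ((hkill _).mpr (hno z hz _)))
    have := Ideal.mem_map_of_mem ψ.toRingHom hmem
    rw [Ideal.map_map, show ψ.toRingHom.comp (algebraMap A (B ⊗[A] B)) = algebraMap A (B' ⊗[A] B') from ψ.comp_algebraMap] at this
    exact this
  have hF := Wiebe.isKoszulRegularSeq_of_isRelGCI (Wiebe.isRelGCI_of_quasiFinite F)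
  have hfg : (diag A B).FG := by rw [diag_eq]; exact KaehlerDifferential.ideal_fg A B
  have hdelta : Wiebe.delta F ∈ (Submodule.annihilator (diag A B)).map ψ.toRingHom := by
    refine mem_map_annihilator ψ.toRingHom hψ _ hfg fun y hy => ?_
    refine Submodule.mem_annihilator.mp (?_ : Wiebe.delta F ∈ Submodule.annihilator (diag A B')) _ ?_
    · rw [show Submodule.annihilator (diag A B') = _ from (Wiebe.annihilator_eq F hF).1]
      exact Ideal.mem_span_singleton_self _
    · refine RingHom.mem_ker.mpr ?_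
      have hc : ∀ w, Algebra.TensorProduct.lmul' (S := B') A (ψ w) = f (Algebra.TensorProduct.lmul' (S := B) A w) := by
        intro w
        induction w using TensorProduct.induction_on with
        | zero => simp
        | add a b ha hb => simp [ha, hb]
        | tmul a b => simp [ψ]
      show Algebra.TensorProduct.lmul' (S := B') A (ψ y) = 0
      rw [hc, RingHom.mem_ker.mp hy, map_zero]
  have hdead' : ((1 : B') ⊗ₜ[A] s₁) * Wiebe.delta F ∈ p.map (algebraMap A (B' ⊗[A] B')) := by
    let N : Ideal (B' ⊗[A] B') := Submodule.comap (LinearMap.mulLeft (B' ⊗[A] B') ((1 : B') ⊗ₜ[A] s₁)) (p.map (algebraMap A (B' ⊗[A] B')))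
    show Wiebe.delta F ∈ N
    suffices h : (Submodule.annihilator (diag A B)).map ψ.toRingHom ≤ N from h hdelta
    refine Ideal.map_le_iff_le_comap.mpr fun z hz => ?_
    show ((1 : B') ⊗ₜ[A] s₁) * ψ z ∈ p.map (algebraMap A (B' ⊗[A] B'))
    have h1 := hdead z hz
    rwa [map_mul, show ψ ((1 : B) ⊗ₜ[A] s) = (1 : B') ⊗ₜ[A] s₁ by simp [ψ, f, s₁]] at h1
  rw [show algebraMap A (B' ⊗[A] B') = (Wiebe.proj₂ F).toRingHom.comp (algebraMap A (MvPolynomial (Fin n) B')) from
    (Wiebe.proj₂ F).comp_algebraMap.symm, ← Ideal.map_map] at hdead'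
  obtain ⟨w, hw, hw'⟩ := (Ideal.mem_map_iff_of_surjective (Wiebe.proj₂ F).toRingHom (Wiebe.proj₂_surjective F)).mp hdead'
  have hker : p.map (algebraMap A (MvPolynomial (Fin n) B')) ≤
      RingHom.ker (MvPolynomial.map (Ideal.Quotient.mk (p.map (algebraMap A B'))) :
        MvPolynomial (Fin n) B' →+* MvPolynomial (Fin n) (B' ⧸ p.map (algebraMap A B'))) := by
    rw [Ideal.map_le_iff_le_comap]
    intro a ha
    rw [Ideal.mem_comap, RingHom.mem_ker, MvPolynomial.algebraMap_apply, MvPolynomial.map_C,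
      Ideal.Quotient.eq_zero_iff_mem.mpr (Ideal.mem_map_of_mem _ ha), map_zero]
  have h2 := Wiebe.jac_span_fibre F p (MvPolynomial.C s₁) (by
    rw [← sub_add_cancel (MvPolynomial.C s₁ * (Wiebe.coeffMat F).det) w]
    refine Submodule.add_mem_sup ?_ (hker hw)
    rw [← Wiebe.proj₂_eq_zero_iff, map_sub, map_mul, Wiebe.proj₂_C, sub_eq_zero]
    exact hw'.symm)
  rw [MvPolynomial.eval_C, IsScalarTower.algebraMap_eq A B B', ← Ideal.map_map,
    IsLocalization.algebraMap_mem_map_algebraMap_iff (Submonoid.powers g)] at h2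
  obtain ⟨_, ⟨k, rfl⟩, hk⟩ := h2
  exact hg (hq.isPrime.mem_of_pow_mem k ((hkill _).mp hk))

theorem differentSet_eq_noether (h : Synt.IsSyntomic A B) :
    Disc.differentSet A B = (Disc.noetherDifferent A B : Set B) := by
  classical
  let e := Module.Free.chooseBasis A B
  refine Set.Subset.antisymm (fun b hb => ?_) noetherDifferent_subset
  rw [mem_differentSet_iff] at hb
  let T : Ideal B := Submodule.comap (LinearMap.mulLeft B b) (Disc.noetherDifferent A B)
  have hT : T = ⊤ := by
    by_contra hne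
    obtain ⟨q, hq, hle⟩ := Ideal.exists_le_maximal T hne
    obtain ⟨z, hz, l, hl⟩ := exists_notMem_range h q
    refine hl (hle ?_)
    obtain ⟨c, hc⟩ := hb ⟨l⟩
    have h1 : phi hz (Disc.Omega.trace A B) ∈ (Disc.noetherDifferent A B : Set B) := by
      rw [noetherDifferent_eq_range]
      exact ⟨phi hz, rfl⟩
    have h2 : b * phi hz ⟨l⟩ = c * phi hz (Disc.Omega.trace A B) := by
      rw [← smul_eq_mul, ← map_smul, hc, map_smul, smul_eq_mul]
    show b * Wiebe.con l z ∈ Disc.noetherDifferent A B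
    exact (show b * Wiebe.con l z = _ from h2) ▸ Ideal.mul_mem_left _ c h1
  have : (1 : B) ∈ T := hT ▸ Submodule.mem_top
  simpa [T] using this

end Eval

end Groth.L01.Disc
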