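import Mathlib.RingTheory.Trace.Basic
import Mathlib.RingTheory.Length
import Mathlib.RingTheory.HopkinsLevitzki
import Mathlib.RingTheory.Ideal.AssociatedPrime.Basic
import Mathlib.RingTheory.LocalRing.ResidueField.Basic
import Mathlib.LinearAlgebra.FiniteDimensional.Basic

/-!
The trace of a finite dimensional local algebra.
-/

set_option autoImplicit false
set_option linter.style.haveILetI false
set_option linter.unusedSectionVars false

universe u

namespace Groth.L01.Disc.TraceLocal

open Module

theorem trace_exact {k V W U : Type*} [Field k] [AddCommGroup V] [Module k V] [AddCommGroup W] [Module k W]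
    [AddCommGroup U] [Module k U] [FiniteDimensional k V] [FiniteDimensional k U]
    (ι : V →ₗ[k] W) (π : W →ₗ[k] U) (hι : Function.Injective ι) (hπ : Function.Surjective π)
    (hex : Function.Exact ι π) (f : W →ₗ[k] W) (g : V →ₗ[k] V) (h : U →ₗ[k] U)
    (hg : ∀ v, f (ι v) = ι (g v)) (hh : ∀ w, π (f w) = h (π w)) :
    LinearMap.trace k W f = LinearMap.trace k V g + LinearMap.trace k U h := by
  obtain ⟨s, hs⟩ := π.exists_rightInverse_of_surjective (LinearMap.range_eq_top.mpr hπ)
  have hπι : ∀ v, π (ι v) = 0 := fun v => (hex _).mpr ⟨v, rfl⟩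
  have hπs : ∀ u, π (s u) = u := fun u => LinearMap.congr_fun hs u
  let E₀ : V × U →ₗ[k] W := ι.coprod s
  have hbij : Function.Bijective E₀ := by
    constructor
    · rw [← LinearMap.ker_eq_bot, LinearMap.ker_eq_bot']
      rintro ⟨v, u⟩ hvu
      have hu : u = 0 := by simpa [E₀, hπι, hπs] using congrArg π hvu
      subst hu
      have : ι v = ι 0 := by simpa [E₀] using hvu
      rw [hι this]
      rfl
    · intro w
      obtain ⟨v, hv⟩ := (hex (w - s (π w))).mp (by rw [map_sub, hπs, sub_self])
      exact ⟨(v, π w), by simp [E₀, hv]⟩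
  let E := LinearEquiv.ofBijective E₀ hbij
  let f' : V × U →ₗ[k] V × U := E.symm.conj f
  let n := f' - g.prodMap h
  have h1 : ∀ v, n (v, 0) = 0 := fun v => by
    show E.symm (f (E (v, 0))) - g.prodMap h (v, 0) = 0
    rw [sub_eq_zero, LinearEquiv.symm_apply_eq]
    simp [E, E₀, hg]
  have h2 : ∀ x, (n x).2 = 0 := fun x => by
    have h3 : ∀ y : V × U, π (E y) = y.2 := fun y => by simp [E, E₀, hπι, hπs]
    show (E.symm (f (E x))).2 - (g.prodMap h x).2 = 0
    rw [sub_eq_zero, ← h3, LinearEquiv.apply_symm_apply, hh, h3]
    rfl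
  have hnil : IsNilpotent n := ⟨2, by
    refine LinearMap.ext fun x => ?_
    rw [pow_two]
    show n (n x) = 0
    rw [show n x = ((n x).1, 0) from Prod.ext rfl (h2 x)]
    exact h1 _⟩
  have h4 := (LinearMap.isNilpotent_trace_of_isNilpotent hnil).eq_zero
  rw [map_sub, LinearMap.trace_prodMap', LinearMap.trace_conj', sub_eq_zero] at h4
  exact h4

variable (k A : Type u) [Field k] [CommRing A] [Algebra k A] [FiniteDimensional k A] [IsLocalRing A]

theorem exists_length_trace : ∀ (n : ℕ) (M : Type u) [AddCommGroup M] [Module A M] [Module k M] [IsScalarTower k A M]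
    [FiniteDimensional k M], finrank k M < n →
    ∃ l : ℕ, Module.length A M = l ∧ ∀ x : A, LinearMap.trace k M (Algebra.lsmul k k M x) =
      l • Algebra.trace k (IsLocalRing.ResidueField A) (IsLocalRing.residue A x) := by
  intro n
  induction n with
  | zero => intro M _ _ _ _ _ h; omega
  | succ n ih =>
    intro M _ _ _ _ _ hn
    rcases subsingleton_or_nontrivial M with hM | hM
    · exact ⟨0, by simp, fun x => by rw [Subsingleton.elim (Algebra.lsmul k k M x) 0, map_zero, zero_smul]⟩
    · haveI : IsArtinianRing A := IsArtinianRing.of_finite k A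
      obtain ⟨P, hP⟩ := associatedPrimes.nonempty A M
      obtain ⟨hPp, m, hm⟩ := isAssociatedPrime_iff.mp (show IsAssociatedPrime P M from hP)
      have hPmax : P = IsLocalRing.maximalIdeal A :=
        IsLocalRing.eq_maximalIdeal (IsArtinianRing.isMaximal_of_isPrime P)
      let ι : IsLocalRing.ResidueField A →ₗ[A] M :=
        Submodule.liftQ (IsLocalRing.maximalIdeal A) (LinearMap.toSpanSingleton A M m) (fun a ha => by
          rw [← hPmax, hm, Submodule.mem_colon_singleton, Submodule.mem_bot] at ha
          exact ha)
      have hι : Function.Injective ι := by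
        rw [← LinearMap.ker_eq_bot, LinearMap.ker_eq_bot']
        intro y hy
        obtain ⟨a, rfl⟩ := Submodule.Quotient.mk_surjective (IsLocalRing.maximalIdeal A) y
        have hy' : a • m = 0 := hy
        refine (Submodule.Quotient.mk_eq_zero _).mpr ?_
        rw [← hPmax, hm, Submodule.mem_colon_singleton, Submodule.mem_bot]
        exact hy'
      let π := (LinearMap.range ι).mkQ
      have hπ : Function.Surjective π := Submodule.mkQ_surjective _
      have hex : Function.Exact ι π := fun y => by simp [π, LinearMap.mem_range]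
      haveI : FiniteDimensional k (M ⧸ LinearMap.range ι) :=
        Module.Finite.of_surjective (π.restrictScalars k) hπ
      have hlt : finrank k (M ⧸ LinearMap.range ι) < n := by
        have h1 := LinearMap.finrank_range_add_finrank_ker (π.restrictScalars k)
        rw [LinearMap.range_eq_top.mpr (show Function.Surjective (π.restrictScalars k) from hπ), finrank_top] at h1
        have h2 : 0 < finrank k (LinearMap.ker (π.restrictScalars k)) := by
          haveI : Nontrivial (LinearMap.ker (π.restrictScalars k)) := by
            refine ⟨⟨ι 1, (hex _).mpr ⟨1, rfl⟩⟩, 0, fun h => one_ne_zero (α := IsLocalRing.ResidueField A) (hι ?_)⟩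
            rw [map_zero]
            exact congrArg Subtype.val h
          exact Module.finrank_pos
        omega
      obtain ⟨l, hl, htr⟩ := ih (M ⧸ LinearMap.range ι) hlt
      haveI : IsSimpleModule A (IsLocalRing.ResidueField A) :=
        isSimpleModule_iff_quot_maximal.mpr ⟨IsLocalRing.maximalIdeal A, inferInstance, ⟨LinearEquiv.refl A _⟩⟩
      refine ⟨1 + l, ?_, fun x => ?_⟩
      · rw [Module.length_eq_add_of_exact ι π hι hπ hex, hl, Module.length_eq_one, Nat.cast_add, Nat.cast_one]
      · rw [trace_exact (ι.restrictScalars k) (π.restrictScalars k) hι hπ hex (Algebra.lsmul k k M x)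
          (Algebra.lsmul k k (IsLocalRing.ResidueField A) x) (Algebra.lsmul k k (M ⧸ LinearMap.range ι) x)
          (fun v => (ι.map_smul x v).symm) (fun w => π.map_smul x w), htr x, add_smul, one_smul]
        congr 1

theorem trace_ne_zero_iff : Algebra.trace k A ≠ 0 ↔
    (Algebra.IsSeparable k (IsLocalRing.ResidueField A) ∧
      ∀ p : ℕ, p.Prime → CharP k p → ¬ p ∣ (Module.length A A).toNat) := by
  obtain ⟨l, hl, htr⟩ := exists_length_trace k A (finrank k A + 1) A (Nat.lt_succ_self _)
  haveI : FiniteDimensional k (IsLocalRing.ResidueField A) :=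
    Module.Finite.of_surjective (IsScalarTower.toAlgHom k A (IsLocalRing.ResidueField A)).toLinearMap
      IsLocalRing.residue_surjective
  let T := Algebra.trace k (IsLocalRing.ResidueField A)
  have hsep : Algebra.IsSeparable k (IsLocalRing.ResidueField A) ↔ T ≠ 0 :=
    (traceForm_nondegenerate_tfae k (IsLocalRing.ResidueField A)).out 0 1
  have htr' : ∀ x, Algebra.trace k A x = (l : k) * T (IsLocalRing.residue A x) := fun x => by
    rw [Algebra.trace_apply, ← nsmul_eq_mul, ← htr x]
    rfl
  rw [hl, ENat.toNat_natCast, hsep]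
  constructor
  · intro h
    have hl0 : (l : k) ≠ 0 := fun h0 => h (LinearMap.ext fun x => by simp [htr', h0])
    refine ⟨fun h0 => h (LinearMap.ext fun x => by simp [htr', h0]), fun p _ hp hdvd => hl0 ?_⟩
    haveI := hp
    exact (CharP.cast_eq_zero_iff k p l).mpr hdvd
  · rintro ⟨hT, hp⟩ h
    obtain ⟨y, hy⟩ : ∃ y, T y ≠ 0 := by
      by_contra h0
      push Not at h0
      exact hT (LinearMap.ext h0)
    obtain ⟨x, rfl⟩ := IsLocalRing.residue_surjective y
    have h1 : (l : k) * T (IsLocalRing.residue A x) = 0 := by rw [← htr', h]; rfl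
    have hl0 : (l : k) = 0 := (mul_eq_zero.mp h1).resolve_right hy
    obtain ⟨p, hchar⟩ := CharP.exists k
    haveI := hchar
    rcases CharP.char_is_prime_or_zero k p with hprime | rfl
    · exact hp p hprime hchar ((CharP.cast_eq_zero_iff k p l).mp hl0)
    · haveI := CharP.charP_to_charZero k
      have : Nontrivial A := inferInstance
      rw [Nat.cast_eq_zero.mp hl0, Nat.cast_zero] at hl
      exact not_subsingleton A (Module.length_eq_zero_iff.mp hl)

end Groth.L01.Disc.TraceLocal
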